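import Cfsg.Agent.Lib.OrthMinDegree.Propagate
import Cfsg.Agent.EqLemmas
/-
Small representations: one line for each singular vector at every level, nothing for the others.
* Small; q_facts; thin (M k v), full (singular ones occur), E_bottom, opp_fixed
* finrank_E_step; bound_of_fix: if E n has dimension at least n the representation is not small
-/
set_option autoImplicit false
set_option linter.unusedSectionVars false

namespace Cfsg.Agent.OrthMinDegree

open Cfsg Module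
open Cfsg.Agent.Orth
open Cfsg.Agent.SUMinDegree (rep_injective)
open QuadraticMap (polar)

variable {ι : Type} [Fintype ι] [DecidableEq ι] {F : Type*} [Field F] [Fintype F]
variable {Q : QuadraticForm F (ι → F)} {n : ℕ} (Φ : Frame Q n)
variable {V : Type} [AddCommGroup V] [Module ℂ V] [FiniteDimensional ℂ V] (ρ : Representation ℂ (OG Q) V)

namespace Frame

/-- The hypothesis to be refuted: the degree is below `(q^{2n}-1)/(q^2-1)`. -/
structure Small : Prop where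
  hn : 3 ≤ n
  hq : 3 < Fintype.card F
  moves : Φ.E ρ 1 ≠ ⊤
  small : (Fintype.card F ^ 2 - 1) * finrank ℂ V + 1 < Fintype.card F ^ (2 * n)

variable {Φ ρ}

theorem Small.five_le (h : Φ.Small ρ) : 5 ≤ Fintype.card F := by
  have h3 := h.hq
  by_contra hlt
  have h4 : Fintype.card F = 4 := by omega
  obtain ⟨p, hp⟩ := CharP.exists F
  obtain ⟨k, hk1, hk2⟩ := FiniteField.card F p
  have h2 : p ∣ 4 := h4 ▸ hk2 ▸ dvd_pow_self p (Nat.pos_iff_ne_zero.1 k.pos)
  obtain rfl : p = 2 := by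
    have := Nat.le_of_dvd (by norm_num) h2
    interval_cases p <;> simp_all (config := { decide := true })
  exact Φ.h2 (CharP.cast_eq_zero F 2)

theorem Small.dim_lt (h : Φ.Small ρ) {c : ℕ} (hc : c ≤ finrank ℂ V) :
    (Fintype.card F ^ 2 - 1) * c + 1 < Fintype.card F ^ (2 * n) :=
  lt_of_le_of_lt (Nat.add_le_add_right (Nat.mul_le_mul_left _ hc) 1) h.small

theorem Small.finrank_nonsingular (h : Φ.Small ρ) {v : ι → F} (hv : v ∈ Φ.W 0) (hQ : Q v ≠ 0) :
    Φ.M ρ 0 v = ⊥ := by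
  classical
  by_contra hne
  have hn := h.hn
  have hq := h.five_le
  have := Fintype.ofFinite (Φ.W 0)
  have := Fintype.ofFinite (Φ.W 1)
  obtain ⟨l, hl0, hl⟩ := exists_scalar h.hq
  -- two norms in the class of `v`
  let g : Bool × Fˣ × Φ.W 1 → Φ.W 0 := fun p =>
    Φ.wEquiv (k := 0) (by omega)
      ((p.2.1 : F), ((if p.1 then Q v else Q v / (l * l)) - Q p.2.2.1) / p.2.1, p.2.2)
  have hgQ : ∀ p, Q (g p).1 = if p.1 then Q v else Q v / (l * l) := fun p => by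
    show Q ((p.2.1 : F) • Φ.e 1 + _ • Φ.f 1 + p.2.2.1) = _
    rw [(Φ.hpair (i := 1) (by omega)).Q_comb (mem_perp_of_W p.2.2.2 le_rfl), mul_div_cancel₀ _ p.2.1.ne_zero,
      sub_add_cancel]
  have hg : Function.Injective g := by
    intro p p' hpp
    have h1 := congrArg (fun x : Φ.W 0 => Q x.1) hpp
    simp only [hgQ] at h1
    have h2 := (Φ.wEquiv (k := 0) (by omega)).injective hpp
    simp only [Prod.mk.injEq] at h2
    obtain ⟨b, a, w⟩ := p
    obtain ⟨b', a', w'⟩ := p'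
    have hb : b = b' := by
      have aux : Q v ≠ Q v / (l * l) := fun e =>
        hl ((mul_eq_left₀ hQ).1 ((eq_div_iff (mul_ne_zero hl0 hl0)).1 e))
      cases b <;> cases b' <;> simp_all [aux.symm]
    dsimp only at h2
    simp [hb, Units.ext h2.1, h2.2.2]
  have hpos : ∀ p, 1 ≤ finrank ℂ (Φ.M ρ 0 (g p).1) := fun p => by
    obtain ⟨c, hc, hcv⟩ : ∃ c : F, c ≠ 0 ∧ Q v = c * c * Q (g p).1 := by
      rw [hgQ]
      rcases p.1 with _ | _
      · exact ⟨l, hl0, by rw [if_neg Bool.false_ne_true, mul_div_cancel₀ _ (mul_ne_zero hl0 hl0)]⟩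
      · exact ⟨1, one_ne_zero, by rw [if_pos rfl, one_mul, one_mul]⟩
    rw [← Φ.finrank_M_square_class ρ hn hv (g p).2 hQ hc hcv]
    exact Submodule.one_le_finrank_iff.2 hne
  have h1 : Fintype.card (Bool × Fˣ × Φ.W 1) ≤ finrank ℂ V := by
    rw [← finrank_top ℂ V, ← Φ.E_zero ρ, ← Φ.sum_finrank_M ρ (k := 0) (by omega)]
    calc Fintype.card (Bool × Fˣ × Φ.W 1) = ∑ p : Bool × Fˣ × Φ.W 1, 1 := by simp
      _ ≤ ∑ p, finrank ℂ (Φ.M ρ 0 (g p).1) := Finset.sum_le_sum fun p _ => hpos p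
      _ = ∑ w ∈ Finset.univ.image g, finrank ℂ (Φ.M ρ 0 w.1) :=
          (Finset.sum_image (g := g) (f := fun w : Φ.W 0 => finrank ℂ (Φ.M ρ 0 w.1)) hg.injOn).symm
      _ ≤ _ := Finset.sum_le_sum_of_subset (Finset.subset_univ _)
  have h2 := Φ.card_W (n - 2) (by omega)
  rw [show n - 1 - (n - 2) = 1 by omega, Nat.card_eq_fintype_card] at h2
  rw [Fintype.card_prod, Fintype.card_prod, Fintype.card_bool, Fintype.card_units, h2] at h1
  have h3 := h.dim_lt h1
  obtain ⟨r, hr⟩ : ∃ r, Fintype.card F = r + 5 := ⟨Fintype.card F - 5, by omega⟩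
  rw [hr, show 2 * n = 2 * (n - 2) + 1 + 3 by omega, pow_add _ (2 * (n - 2) + 1) 3, show r + 5 - 1 = r + 4 by omega,
    show (r + 5) ^ 2 - 1 = r * r + 10 * r + 24 by rw [show (r + 5) ^ 2 = r * r + 10 * r + 24 + 1 by ring]; omega]
    at h3
  generalize (r + 5) ^ (2 * (n - 2) + 1) = P at h3
  nlinarith [Nat.zero_le (r * r * r * P), Nat.zero_le (r * r * P), Nat.zero_le (r * P), Nat.zero_le P]

theorem Small.finrank_le_one (h : Φ.Small ρ) {v : ι → F} (hv : v ∈ Φ.W 0) (hv0 : v ≠ 0) :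
    finrank ℂ (Φ.M ρ 0 v) ≤ 1 := by
  classical
  rcases ne_or_eq (Q v) 0 with hQ | hQ
  · rw [h.finrank_nonsingular hv hQ, finrank_bot]; omega
  by_contra hlt
  push Not at hlt
  have hn := h.hn
  have hq := h.five_le
  have := Fintype.ofFinite (Φ.W 0)
  have hcard := Φ.card_singular (n - 1) (by omega)
  rw [Nat.sub_self, Nat.card_eq_fintype_card, Fintype.card_subtype] at hcard
  have h1 : 2 * (Fintype.card F ^ (2 * (n - 1)) - 1) ≤ finrank ℂ V := by
    rw [← finrank_top ℂ V, ← Φ.E_zero ρ, ← Φ.sum_finrank_M ρ (k := 0) (by omega), ← hcard]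
    calc _ = ∑ w ∈ (Finset.univ.filter fun w : Φ.W 0 => Q w.1 = 0).erase 0, 2 := by
          rw [Finset.sum_const, smul_eq_mul, Finset.card_erase_of_mem (by simp), mul_comm]
      _ ≤ ∑ w ∈ (Finset.univ.filter fun w : Φ.W 0 => Q w.1 = 0).erase 0, finrank ℂ (Φ.M ρ 0 w.1) := by
          refine Finset.sum_le_sum fun w hw => ?_
          obtain ⟨hw0, hwQ⟩ : w ≠ 0 ∧ Q w.1 = 0 := by simpa using hw
          rw [(Φ.finrank_M_reduce ρ hn (k := 0) (by omega) w.2 fun hz => hw0 (Subtype.ext hz)).1 hwQ,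
            ← (Φ.finrank_M_reduce ρ hn (k := 0) (by omega) hv hv0).1 hQ]
          omega
      _ ≤ _ := Finset.sum_le_sum_of_subset (Finset.subset_univ _)
  have h3 := h.dim_lt h1
  obtain ⟨r, hr⟩ : ∃ r, Fintype.card F = r + 5 := ⟨Fintype.card F - 5, by omega⟩
  rw [hr, show 2 * n = 2 * (n - 1) + 2 by omega, pow_add,
    show (r + 5) ^ 2 - 1 = r * r + 10 * r + 24 by rw [show (r + 5) ^ 2 = r * r + 10 * r + 24 + 1 by ring]; omega]
    at h3
  have hP : 25 ≤ (r + 5) ^ (2 * (n - 1)) :=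
    le_trans (by nlinarith : 25 ≤ (r + 5) ^ 2) (Nat.pow_le_pow_right (by omega) (by omega))
  generalize (r + 5) ^ (2 * (n - 1)) = P at h3 hP
  obtain ⟨p, rfl⟩ : ∃ p, P = p + 25 := ⟨P - 25, by omega⟩
  rw [show p + 25 - 1 = p + 24 by omega] at h3
  nlinarith [Nat.zero_le (r * r * p), Nat.zero_le (r * p), Nat.zero_le p, Nat.zero_le (r * r), Nat.zero_le r]

theorem Small.thin (h : Φ.Small ρ) {k : ℕ} (hk : k < n) {v : ι → F} (hv : v ∈ Φ.W k) (hv0 : v ≠ 0) :
    finrank ℂ (Φ.M ρ k v) ≤ 1 ∧ (Q v ≠ 0 → Φ.M ρ k v = ⊥) := by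
  induction k generalizing v with
  | zero => exact ⟨h.finrank_le_one hv hv0, h.finrank_nonsingular hv⟩
  | succ k ih =>
    have := Fintype.ofFinite (Φ.W k)
    have hup := Φ.upper ρ hk hv hv0
    obtain ⟨h1, h2⟩ := ih (v := -v) (by omega) (neg_mem (W_anti (Nat.le_succ k) hv)) (neg_ne_zero.2 hv0)
    refine ⟨hup.trans h1, fun hQ => Submodule.finrank_eq_zero.1 (Nat.le_zero.1 (hup.trans ?_))⟩
    rw [h2 (by rwa [QuadraticMap.map_neg]), finrank_bot]

theorem singular_transfer (hn : 3 ≤ n) {k : ℕ} (hk : k + 1 < n) {v w : ι → F} (hv : v ∈ Φ.W k)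
    (hv0 : v ≠ 0) (hvQ : Q v = 0) (hw : w ∈ Φ.W k) (hw0 : w ≠ 0) (hwQ : Q w = 0) :
    finrank ℂ (Φ.M ρ k v) = finrank ℂ (Φ.M ρ k w) := by
  rw [(Φ.finrank_M_reduce ρ hn hk hv hv0).1 hvQ, (Φ.finrank_M_reduce ρ hn hk hw hw0).1 hwQ]

theorem Small.full (h : Φ.Small ρ) {k : ℕ} (hk : k + 1 < n) {v : ι → F} (hv : v ∈ Φ.W k) (hv0 : v ≠ 0)
    (hQ : Q v = 0) : finrank ℂ (Φ.M ρ k v) = 1 := by
  have hn := h.hn
  refine le_antisymm (h.thin (by omega) hv hv0).1 ?_
  have hef : ∀ i, i < n → Φ.e i ≠ 0 := fun i hi => (Φ.hpair hi).ne_zero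
  induction k generalizing v with
  | zero =>
    by_contra hlt
    refine h.moves (eq_top_iff.2 fun u _ => ?_)
    have := Fintype.ofFinite (Φ.W 0)
    rw [← Φ.M_zero ρ (show 0 < n by omega), ← Φ.sum_pM ρ (show 0 < n by omega) u,
      Finset.sum_eq_single (0 : Φ.W 0)]
    · exact Φ.pM_mem ρ (by omega) (0 : ι → F) (by rw [E_zero]; trivial)
    · intro w _ hw
      have hw0 : w.1 ≠ 0 := fun hz => hw (Subtype.ext hz)
      have hmem := Φ.pM_mem ρ (show 0 < n by omega) w.1 (u := u) (by rw [E_zero]; trivial)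
      have hbot : Φ.M ρ 0 w.1 = ⊥ := by
        rcases ne_or_eq (Q w.1) 0 with hq | hq
        · exact h.finrank_nonsingular w.2 hq
        · exact Submodule.finrank_eq_zero.1 (by
            rw [singular_transfer hn hk w.2 hw0 hq hv hv0 hQ]; omega)
      rw [hbot] at hmem
      exact (Submodule.mem_bot ℂ).1 hmem
    · exact fun hh => absurd (Finset.mem_univ _) hh
  | succ k ih =>
    have := Fintype.ofFinite (Φ.W k)
    have he := e_mem_W (Φ := Φ) (k := k + 1) (show k + 2 < n by omega) (by omega)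
    rw [singular_transfer hn hk hv hv0 hQ he (hef _ (by omega)) (Φ.qe _ (by omega))]
    refine Submodule.one_le_finrank_iff.2 (Φ.lower ρ h.hq (by omega)
      (fun w hw hw0 => (h.thin (by omega) hw hw0).1) (Submodule.one_le_finrank_iff.1 ?_))
    exact ih (by omega) (neg_mem (W_anti (Nat.le_succ k) he)) (neg_ne_zero.2 (hef _ (by omega)))
      (by rw [QuadraticMap.map_neg, Φ.qe _ (by omega)])

theorem Small.E_bottom (h : Φ.Small ρ) : Φ.E ρ (n - 1) = Φ.E ρ n := by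
  have hn := h.hn
  refine le_antisymm (fun u hu => ?_) (Φ.E_anti ρ (Nat.sub_le n 1))
  have := Fintype.ofFinite (Φ.W (n - 1))
  have hk : n - 1 < n := by omega
  have hM : Φ.M ρ (n - 1) 0 = Φ.E ρ n := by rw [Φ.M_zero ρ hk, Nat.sub_add_cancel (by omega)]
  rw [← hM, ← Φ.sum_pM ρ hk u, Finset.sum_eq_single (0 : Φ.W (n - 1))]
  · exact Φ.pM_mem ρ hk (0 : ι → F) hu
  · intro w _ hw
    have hw0 : w.1 ≠ 0 := fun hz => hw (Subtype.ext hz)
    obtain ⟨c, hc⟩ := Φ.hcore w.1 fun i hi => w.2 i (by omega)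
    have hQ : Q w.1 ≠ 0 := by
      rw [hc, Q_smul]
      exact mul_ne_zero (mul_self_ne_zero.2 fun hc0 => hw0 (by rw [hc, hc0, zero_smul])) Φ.qz
    have hmem := Φ.pM_mem ρ hk w.1 hu
    rw [(h.thin hk w.2 hw0).2 hQ] at hmem
    exact (Submodule.mem_bot ℂ).1 hmem
  · exact fun hh => absurd (Finset.mem_univ _) hh

/-- The bottom short root groups fix `E n`. -/
theorem Small.opp_fixed (h : Φ.Small ρ) {u : V} (hu : u ∈ Φ.E ρ n) {x : ι → F} (hx : x ∈ Φ.W (n - 1)) :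
    ρ (Φ.em (Φ.f (n - 1)) x) u = u := by
  have hn := h.hn
  have hk : n - 1 < n := by omega
  obtain ⟨a1, a2, -, a4⟩ := Φ.nEl_spec (Φ.hpair hk) (Φ.pez _ hk) (Φ.pfz _ hk) Φ.qz
  obtain ⟨N, hN⟩ : ∃ N, N = Φ.nEl (Φ.e (n - 1)) (Φ.f (n - 1)) Φ.z := ⟨_, rfl⟩
  rw [← hN] at a1 a2 a4
  have hdiag : ∀ j < n - 1, act N (Φ.e j) = Φ.e j := fun j hj =>
    a4 _ (Φ.pee hk (by omega)) (Φ.pnfe hk (by omega) (by omega)) (by rw [pl_comm]; exact Φ.pez j (by omega))
  have t2 : act N⁻¹ (Φ.f (n - 1)) = (-Q Φ.z)⁻¹ • Φ.e (n - 1) := by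
    have h1 : act N ((-Q Φ.z)⁻¹ • Φ.e (n - 1)) = Φ.f (n - 1) := by
      rw [map_smul, a1, smul_smul, inv_mul_cancel₀ (neg_ne_zero.2 Φ.qz), one_smul]
    conv_lhs => rw [← h1, act_inv_act]
  rw [← h.E_bottom] at hu
  have hu' : ρ N⁻¹ u ∈ Φ.E ρ n := by
    rw [← h.E_bottom]
    exact Φ.mapsTo_E_fix ρ (fun j hj => by conv_lhs => rw [← hdiag j hj, act_inv_act]) hu
  have h1 : N⁻¹ * Φ.em (Φ.f (n - 1)) x = Φ.em (Φ.e (n - 1)) ((-Q Φ.z)⁻¹ • act N⁻¹ x) * N⁻¹ := by
    rw [Φ.mul_em, t2, Φ.em_smul_left]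
  refine rep_injective ρ N⁻¹ ?_
  rw [← Module.End.mul_apply, ← map_mul, h1, map_mul, Module.End.mul_apply]
  refine (Φ.mem_E ρ).1 hu' (n - 1) hk _ fun i hi => ?_
  rw [pl_smul_right]
  rcases eq_or_ne i (n - 1) with rfl | hne
  · rw [← act_polar N, act_act_inv, a1, pl_smul_left, W_f hx le_rfl, mul_zero, mul_zero]
  · rw [← act_polar N, act_act_inv, hdiag i (by omega), W_e hx (by omega), mul_zero]

theorem Small.finrank_E_step (h : Φ.Small ρ) {k : ℕ} (hk : k + 1 < n) :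
    finrank ℂ (Φ.E ρ k) + 1 = finrank ℂ (Φ.E ρ (k + 1)) + Fintype.card F ^ (2 * (n - 1 - k)) := by
  classical
  have hk' : k < n := by omega
  have := Fintype.ofFinite (Φ.W k)
  have hcard := Φ.card_singular (n - 1 - k) (by omega)
  rw [show n - 1 - (n - 1 - k) = k by omega, Nat.card_eq_fintype_card, Fintype.card_subtype] at hcard
  rw [← Φ.sum_finrank_M ρ hk', ← hcard, ← Finset.add_sum_erase _ _ (Finset.mem_univ (0 : Φ.W k))]
  have h0 : ((0 : Φ.W k) : ι → F) = 0 := rfl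
  rw [h0, Φ.M_zero ρ hk', add_assoc]
  congr 1
  rw [← Finset.card_erase_add_one (a := (0 : Φ.W k)) (by simp), add_left_inj]
  rw [← Finset.sum_subset (s₁ := (Finset.univ.filter fun w : Φ.W k => Q w.1 = 0).erase 0)]
  · rw [Finset.card_eq_sum_ones]
    refine Finset.sum_congr rfl fun w hw => ?_
    obtain ⟨hw0, hwQ⟩ : w ≠ 0 ∧ Q w.1 = 0 := by simpa using hw
    exact h.full hk w.2 (fun hz => hw0 (Subtype.ext hz)) hwQ
  · exact Finset.erase_subset_erase _ (Finset.subset_univ _)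
  · intro w hw hw'
    have hw0 : w ≠ 0 := by simpa using hw
    have hQ : Q w.1 ≠ 0 := fun hq => hw' (by simp [hw0, hq])
    rw [(h.thin hk' w.2 fun hz => hw0 (Subtype.ext hz)).2 hQ, finrank_bot]

theorem Small.bound_of_fix (h : Φ.Small ρ) : finrank ℂ (Φ.E ρ n) < n := by
  by_contra hle
  push Not at hle
  have hn := h.hn
  have hq := h.five_le
  have key : ∀ j, j < n → ∑ i ∈ Finset.range (j + 1), (Fintype.card F ^ 2) ^ i + (n - 1 - j) ≤
      finrank ℂ (Φ.E ρ (n - 1 - j)) := by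
    intro j hj
    induction j with
    | zero =>
      rw [Nat.sub_zero, h.E_bottom, zero_add, Finset.sum_range_one, pow_zero]
      omega
    | succ j ih =>
      have h1 := h.finrank_E_step (k := n - 1 - (j + 1)) (by omega)
      rw [show n - 1 - (n - 1 - (j + 1)) = j + 1 by omega, show n - 1 - (j + 1) + 1 = n - 1 - j by omega,
        pow_mul] at h1
      have h2 := ih (by omega)
      rw [Finset.sum_range_succ]
      omega
  have h1 := key (n - 1) (by omega)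
  rw [Nat.sub_self, E_zero, finrank_top, Nat.sub_add_cancel (by omega : 1 ≤ n), add_zero] at h1
  have h3 := h.dim_lt h1
  obtain ⟨r, hr⟩ : ∃ r, Fintype.card F ^ 2 = r + 1 :=
    ⟨Fintype.card F ^ 2 - 1, (Nat.sub_add_cancel (Nat.one_le_pow _ _ (by omega))).symm⟩
  rw [pow_mul, hr, Nat.add_sub_cancel] at h3
  have h4 : r * ∑ i ∈ Finset.range n, (r + 1) ^ i + 1 = (r + 1) ^ n := by
    rw [mul_comm]; exact geom_sum_mul_add r n
  omega

end Frame

end Cfsg.Agent.OrthMinDegree
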