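import Cfsg.Agent.Lib.OrthMinDegree.Fourier
import Cfsg.Agent.EqLemmas
/-
The lower bound for representations of Ω without invariant vectors.
* Single: weights negated by every pair torus through one index; swap_pairT; singles give n independent vectors
* degree_bound: q^{2n} ≤ (q^2-1) dim V + 1
-/
set_option autoImplicit false
set_option linter.unusedSectionVars false

namespace Cfsg.Agent.OrthMinDegree

open Cfsg Module
open Cfsg.Agent.Orth
open Cfsg.Agent.SUMinDegree (rep_injective)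
open QuadraticMap (polar)

variable {ι : Type} [Fintype ι] [DecidableEq ι] {F : Type*} [Field F] [Fintype F]
variable {Q : QuadraticForm F (ι → F)} {n : ℕ} {Φ : Frame Q n}
variable {V : Type} [AddCommGroup V] [Module ℂ V] [FiniteDimensional ℂ V] {ρ : Representation ℂ (OG Q) V}

namespace Frame

theorem swap_pairT {i : ℕ} (hi : i + 1 < n) {v : V} {a b : ℕ} (ha : a < n) (hb : b < n) (hab : a ≠ b) {x : F}
    (hx : x ≠ 0) {c : ℂ} (h : ρ (Φ.pairT (Equiv.swap i (i + 1) a) (Equiv.swap i (i + 1) b) x) v = c • v) :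
    ρ (Φ.pairT a b x) (Φ.swapVec ρ i v) = c • Φ.swapVec ρ i v := by
  have hD := Φ.pairT_mem_Dg ha hb hab hx
  refine Φ.swapVec_scal ρ hi hD ?_
  rw [← h]
  congr 2
  refine Φ.dg_ext (Φ.conj_swap hi hD).1 (Φ.pairT_mem_Dg (swap_lt hi ha) (swap_lt hi hb)
    ((Equiv.swap i (i + 1)).injective.ne hab) hx) fun l hl => ?_
  rw [(Φ.conj_swap hi hD).2 l hl _ (Φ.pairT_e ha hb hab hx (swap_lt hi hl)),
    Φ.pairT_e (swap_lt hi ha) (swap_lt hi hb) ((Equiv.swap i (i + 1)).injective.ne hab) hx hl]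
  simp only [Equiv.swap_apply_eq_iff]

/-- `ν` acts with the sign of the non-squares. -/
theorem Small.sign (h : Φ.Small ρ) {ν : F} (hν : ν ≠ 0) {v : V} (hv : Φ.IsWt ρ v) {a b : ℕ} (ha : a < n)
    (hb : b < n) (hab : a ≠ b) :
    ρ (Φ.pairT a b ν) v = (1 : ℂ) • v ∨ ρ (Φ.pairT a b ν) v = (-1 : ℂ) • v := by
  obtain ⟨c, hc⟩ := hv.scal _ (Φ.pairT_mem_Dg ha hb hab hν)
  have h1 := h.wt_pair_sq hv ha hb hab hν
  rw [Φ.pairT_mul ha hb hab hν hν, map_mul, Module.End.mul_apply, hc, map_smul, hc, smul_smul] at h1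
  rcases mul_self_eq_one_iff.1 (smul_left_injective ℂ hv.ne (h1.trans (one_smul ℂ v).symm)) with rfl | rfl
  · exact Or.inl hc
  · exact Or.inr hc

theorem Small.sign_symm (h : Φ.Small ρ) {ν : F} (hν : ν ≠ 0) {v : V} (hv : Φ.IsWt ρ v) {a b : ℕ} (ha : a < n)
    (hb : b < n) (hab : a ≠ b) : ρ (Φ.pairT b a ν) v = ρ (Φ.pairT a b ν) v := by
  conv_lhs => rw [Φ.pairT_symm ha hb hab hν, show ν⁻¹ = ν * (ν⁻¹ * ν⁻¹) by field_simp,
    Φ.pairT_mul ha hb hab hν (mul_ne_zero (inv_ne_zero hν) (inv_ne_zero hν)), map_mul, Module.End.mul_apply,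
    h.wt_pair_sq hv ha hb hab (inv_ne_zero hν)]

theorem Small.sign_trans {ν : F} (hν : ν ≠ 0) {v : V} {a b c : ℕ} (ha : a < n) (hb : b < n) (hc : c < n)
    (hab : a ≠ b) (hbc : b ≠ c) (hac : a ≠ c) {s t : ℂ} (h1 : ρ (Φ.pairT a b ν) v = s • v)
    (h2 : ρ (Φ.pairT b c ν) v = t • v) : ρ (Φ.pairT a c ν) v = (t * s) • v := by
  rw [← Φ.pairT_trans ha hb hc hab hbc hac hν, map_mul, Module.End.mul_apply, h2, map_smul, h1, smul_smul]

variable (Φ ρ) in
/-- A weight negated by the non-square pair torus exactly through the index `k`. -/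
structure Single (ν : F) (k : ℕ) (v : V) : Prop where
  wt : Φ.IsWt ρ v
  neg : ∀ j, j < n → j ≠ k → ρ (Φ.pairT k j ν) v = (-1 : ℂ) • v
  pos : ∀ a b, a < n → b < n → a ≠ b → a ≠ k → b ≠ k → ρ (Φ.pairT a b ν) v = (1 : ℂ) • v

theorem Small.mk_single (h : Φ.Small ρ) {ν : F} (hν : ν ≠ 0) {k : ℕ} (hk : k < n) {v : V} (hv : Φ.IsWt ρ v)
    (hneg : ∀ j, j < n → j ≠ k → ρ (Φ.pairT k j ν) v = (-1 : ℂ) • v) : Φ.Single ρ ν k v := by
  refine ⟨hv, hneg, fun a b ha hb hab hak hbk => ?_⟩
  rw [sign_trans hν ha hk hb hak hbk.symm hab ((h.sign_symm hν hv hk ha hak.symm).trans (hneg a ha hak))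
    (hneg b hb hbk)]
  norm_num

theorem Single.swap {ν : F} (hν : ν ≠ 0) {k : ℕ} {v : V} (hs : Φ.Single ρ ν k v) {i : ℕ} (hi : i + 1 < n)
    (hk : k < n) : Φ.Single ρ ν (Equiv.swap i (i + 1) k) (Φ.swapVec ρ i v) := by
  refine ⟨Φ.swap_wt ρ hi hs.wt, fun j hj hjk => ?_, fun a b ha hb hab hak hbk => ?_⟩
  · refine swap_pairT hi (swap_lt hi hk) hj (Ne.symm hjk) hν ?_
    rw [Equiv.swap_apply_self]
    exact hs.neg _ (swap_lt hi hj) fun e => hjk (Equiv.swap_apply_eq_iff.1 e)
  · exact swap_pairT hi ha hb hab hν (hs.pos _ _ (swap_lt hi ha) (swap_lt hi hb)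
      ((Equiv.swap i (i + 1)).injective.ne hab) (fun e => hak (Equiv.swap_apply_eq_iff.1 e))
      fun e => hbk (Equiv.swap_apply_eq_iff.1 e))

theorem exists_single_of_single {ν : F} (hν : ν ≠ 0) {k : ℕ} {v : V} (hs : Φ.Single ρ ν k v) (hk : k < n)
    {l : ℕ} (hl : l < n) : ∃ w, Φ.Single ρ ν l w := by
  have h0 : ∃ w, Φ.Single ρ ν 0 w := by
    induction k generalizing v with
    | zero => exact ⟨v, hs⟩
    | succ k ih =>
      have h1 := hs.swap hν hk hk
      rw [Equiv.swap_apply_right] at h1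
      exact ih h1 (by omega)
  induction l with
  | zero => exact h0
  | succ l ih =>
    obtain ⟨w, hw⟩ := ih (by omega)
    have h1 := hw.swap hν hl (show l < n by omega)
    rw [Equiv.swap_apply_left] at h1
    exact ⟨_, h1⟩

theorem Small.no_single (h : Φ.Small ρ) {ν : F} (hν : ν ≠ 0) {k : ℕ} {v : V} (hk : k < n) :
    ¬ Φ.Single ρ ν k v := by
  intro hs
  have hn := h.hn
  choose w hw using fun l : Fin n => exists_single_of_single hν hs hk l.2
  have hli : LinearIndependent ℂ w := by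
    refine Fintype.linearIndependent_iff.2 fun c hc m => ?_
    obtain ⟨l1, l2, h1, h2, hne1, hne2, h12⟩ :
        ∃ l1 l2 : ℕ, l1 < n ∧ l2 < n ∧ (m : ℕ) ≠ l1 ∧ (m : ℕ) ≠ l2 ∧ l1 ≠ l2 := by
      rcases eq_or_ne (m : ℕ) 0 with h0 | h0
      · exact ⟨1, 2, by omega, by omega, by omega, by omega, by omega⟩
      rcases eq_or_ne (m : ℕ) 1 with h1 | h1
      · exact ⟨0, 2, by omega, by omega, by omega, by omega, by omega⟩
      · exact ⟨0, 1, by omega, by omega, by omega, by omega, by omega⟩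
    obtain ⟨T, hT⟩ : ∃ T : V →ₗ[ℂ] V, T = (1 - ρ (Φ.pairT m l1 ν)) * (1 - ρ (Φ.pairT m l2 ν)) := ⟨_, rfl⟩
    have hTw : ∀ l : Fin n, T (w l) = if l = m then (4 : ℂ) • w l else 0 := by
      intro l
      simp only [hT, Module.End.mul_apply, LinearMap.sub_apply, Module.End.one_apply, map_sub]
      split_ifs with hlm
      · subst hlm
        rw [(hw l).neg _ h2 hne2.symm, map_smul, (hw l).neg _ h1 hne1.symm]
        module
      · have hml : (m : ℕ) ≠ l := fun e => hlm (Fin.ext e).symm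
        rcases eq_or_ne (l : ℕ) l2 with hl2 | hl2
        · have hp := (hw l).pos _ _ m.2 h1 hne1 hml (by omega)
          rcases h.sign hν (hw l).wt m.2 h2 hne2 with he | he <;> rw [he, map_smul, hp] <;> module
        · rw [(hw l).pos _ _ m.2 h2 hne2 hml (Ne.symm hl2), map_smul]
          module
    have hsum := congrArg T hc
    simp only [map_sum, map_smul, hTw, smul_ite, smul_zero, Finset.sum_ite_eq', Finset.mem_univ, if_true,
      map_zero, smul_smul, smul_eq_zero] at hsum
    rcases hsum with h0 | h0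
    · exact (mul_eq_zero.1 h0).resolve_right (by norm_num)
    · exact absurd h0 (hw m).wt.ne
  have h1 := finrank_span_eq_card hli
  have h2 : Submodule.span ℂ (Set.range w) ≤ Φ.E ρ n := by
    rw [Submodule.span_le]
    rintro _ ⟨l, rfl⟩
    exact (hw l).wt.mem
  have h3 := Submodule.finrank_mono h2
  rw [h1, Fintype.card_fin] at h3
  exact absurd h.bound_of_fix (Nat.not_lt.2 h3)

/-- Neighbouring pair tori fix every weight. -/
theorem Small.adjacent_fix (h : Φ.Small ρ) {ν : F} (hν : ν ≠ 0) {v : V} (hv : Φ.IsWt ρ v) {i : ℕ}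
    (hi : i + 1 < n) : ρ (Φ.pairT i (i + 1) ν) v = (1 : ℂ) • v := by
  classical
  have hn := h.hn
  induction i using Nat.strong_induction_on generalizing v with
  | _ i ih =>
    refine (h.sign hν hv (by omega) hi (by omega)).resolve_right fun hneg => ?_
    have hne : ρ (Φ.pairT i (i + 1) ν) v ≠ v := fun e => by
      rw [hneg] at e
      exact absurd (smul_left_injective ℂ hv.ne (e.trans (one_smul ℂ v).symm)) (by norm_num)
    -- the indices up to `i` agree
    have hlow : ∀ d j, j + d = i → 0 < d → ρ (Φ.pairT j i ν) v = (1 : ℂ) • v := by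
      intro d
      induction d with
      | zero => omega
      | succ d ihd =>
        intro j hjd _
        rcases Nat.eq_zero_or_pos d with rfl | hd
        · rw [← hjd]; exact ih j (by omega) hv (by omega)
        · rw [sign_trans hν (by omega) (show j + 1 < n by omega) (by omega) (by omega) (by omega) (by omega)
            (ih j (by omega) hv (by omega)) (ihd (j + 1) (by omega) hd), one_mul]
    rcases Nat.lt_or_ge (i + 2) n with h2 | h2
    swap
    · refine h.no_single hν hi (h.mk_single hν hi hv fun j hj hji => ?_)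
      rw [h.sign_symm hν hv hj hi hji]
      rcases eq_or_ne j i with rfl | hji'
      · exact hneg
      · rw [sign_trans hν hj (show i < n by omega) hi hji' (by omega) hji (hlow (i - j) j (by omega) (by omega)) hneg,
          mul_one]
    have htail : ∀ j l, i + 1 < j → j < n → i + 1 < l → l < n → j ≠ l → ρ (Φ.pairT j l ν) v = (1 : ℂ) • v :=
      fun j l h1 h3 h4 h5 h6 => by rw [h.tail hi hv hν hne h1 h3 h4 h5 h6 hν, one_smul]
    rcases h.sign hν hv hi h2 (show i + 1 ≠ i + 2 by omega) with hB | hA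
    · -- the tail goes with `i + 1`
      rcases Nat.eq_zero_or_pos i with rfl | hi0
      · refine h.no_single hν (show 0 < n by omega) (h.mk_single hν (by omega) hv fun j hj hj0 => ?_)
        rcases eq_or_ne j 1 with rfl | hj1
        · exact hneg
        rcases eq_or_ne j 2 with rfl | hj2
        · rw [sign_trans hν (by omega) hi hj (by omega) (by omega) (by omega) hneg hB, one_mul]
        · rw [sign_trans hν (show 0 < n by omega) (show 2 < n by omega) hj (by omega) (by omega) (by omega)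
            (sign_trans hν (by omega) hi (by omega) (by omega) (by omega) (by omega) hneg hB)
            (htail 2 j (by omega) (by omega) (by omega) hj (by omega)), one_mul, one_mul]
      · obtain ⟨p, rfl⟩ : ∃ p, i = p + 1 := ⟨i - 1, by omega⟩
        have hw := Φ.swap_wt ρ (i := p + 1) hi hv
        have hfix : ρ (Φ.pairT p (p + 1) ν) (Φ.swapVec ρ (p + 1) v) = (-1 : ℂ) • Φ.swapVec ρ (p + 1) v := by
          refine swap_pairT hi (by omega) (by omega) (by omega) hν ?_
          rw [Equiv.swap_apply_of_ne_of_ne (by omega) (by omega), Equiv.swap_apply_left,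
            sign_trans hν (by omega) (show p + 1 < n by omega) hi (by omega) (by omega) (by omega)
              (ih p (by omega) hv (by omega)) hneg, mul_one]
        rw [ih p (by omega) hw (by omega)] at hfix
        exact absurd (smul_left_injective ℂ hw.ne hfix) (by norm_num)
    · -- the tail goes with `i`
      refine h.no_single hν hi (h.mk_single hν hi hv fun j hj hji => ?_)
      rcases lt_or_gt_of_ne hji with hlt | hgt
      · rw [h.sign_symm hν hv hj hi hji]
        rcases eq_or_ne j i with rfl | hji'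
        · exact hneg
        · rw [sign_trans hν hj (show i < n by omega) hi hji' (by omega) hji
            (hlow (i - j) j (by omega) (by omega)) hneg, mul_one]
      · rcases eq_or_ne j (i + 2) with rfl | hj2
        · exact hA
        · rw [sign_trans hν hi h2 hj (by omega) (Ne.symm hj2) (by omega) hA
            (htail (i + 2) j (by omega) h2 (by omega) hj (Ne.symm hj2)), one_mul]

theorem Small.pair_fix (h : Φ.Small ρ) {v : V} (hv : Φ.IsWt ρ v) {i j : ℕ} (hi : i < n) (hj : j < n)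
    (hij : i ≠ j) {x : F} (hx : x ≠ 0) : ρ (Φ.pairT i j x) v = v := by
  obtain ⟨ν, hν⟩ := FiniteField.exists_nonsquare (F := F) (fun h2 => Φ.h2 (by
    have := ringChar.Nat.cast_ringChar (R := F)
    rw [h2] at this
    exact_mod_cast this))
  have hν0 : ν ≠ 0 := fun e => hν (e ▸ IsSquare.zero)
  have hup : ∀ d a, a + (d + 1) < n → ρ (Φ.pairT a (a + (d + 1)) ν) v = (1 : ℂ) • v := by
    intro d
    induction d with
    | zero => exact fun a ha => h.adjacent_fix hν0 hv ha
    | succ d ihd =>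
      intro a ha
      rw [sign_trans hν0 (show a < n by omega) (show a + 1 < n by omega) ha (by omega) (by omega) (by omega)
        (h.adjacent_fix hν0 hv (by omega)) (show ρ (Φ.pairT (a + 1) (a + (d + 1 + 1)) ν) v = (1 : ℂ) • v by
          rw [show a + (d + 1 + 1) = a + 1 + (d + 1) by omega]; exact ihd (a + 1) (by omega)), one_mul]
  have hνfix : ρ (Φ.pairT i j ν) v = v := by
    rcases lt_or_gt_of_ne hij with hlt | hgt
    · obtain ⟨d, rfl⟩ : ∃ d, j = i + (d + 1) := ⟨j - i - 1, by omega⟩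
      rw [hup d i hj, one_smul]
    · obtain ⟨d, rfl⟩ : ∃ d, i = j + (d + 1) := ⟨i - j - 1, by omega⟩
      rw [h.sign_symm hν0 hv hj hi (by omega), hup d j hi, one_smul]
  classical
  by_cases hsq : IsSquare x
  · obtain ⟨y, rfl⟩ := hsq
    exact h.wt_pair_sq hv hi hj hij (fun e => hx (by rw [e, mul_zero]))
  · obtain ⟨y, hy⟩ : IsSquare (x / ν) := by
      have h1 : quadraticChar F (x / ν) = 1 := by
        rw [div_eq_mul_inv, map_mul, quadraticChar_neg_one_iff_not_isSquare.2 hsq,
          quadraticChar_neg_one_iff_not_isSquare.2 (fun hs => hν (by simpa using hs.inv))]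
        norm_num
      exact (quadraticChar_one_iff_isSquare (div_ne_zero hx hν0)).1 h1
    have hy0 : y ≠ 0 := fun e => div_ne_zero hx hν0 (by rw [hy, e, mul_zero])
    rw [show x = ν * (y * y) by rw [← hy]; field_simp, Φ.pairT_mul hi hj hij hν0 (mul_ne_zero hy0 hy0), map_mul,
      Module.End.mul_apply, h.wt_pair_sq hv hi hj hij hy0, hνfix]

/-- A small representation has an invariant vector. -/
theorem Small.exists_fixed (h : Φ.Small ρ) : ∃ v : V, v ≠ 0 ∧ ∀ g, ρ g v = v := by
  have hn := h.hn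
  obtain ⟨v, hv⟩ := Φ.exists_wt ρ h.E_ne_bot
  have hopp : ∀ d k, k + d + 1 = n → ∀ x ∈ Φ.W k, ρ (Φ.em (Φ.f k) x) v = v := by
    intro d
    induction d with
    | zero =>
      intro k hk x hx
      obtain rfl : k = n - 1 := by omega
      exact h.opp_fixed hv.mem hx
    | succ d ihd =>
      intro k hk
      exact h.opp_step (by omega) hv.mem (fun j hj y hy => h.wt_sq hv hj hy)
        (fun a b ha hb hab x hx => h.pair_fix hv ha hb hab hx) (ihd (k + 1) (by omega))
  exact ⟨v, hv.ne, fix_all Φ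
    (fun x hx => (Φ.mem_E ρ).1 hv.mem 0 (by omega) x fun l hl => W_e hx hl)
    (hopp (n - 1) 0 (by omega))⟩

theorem fixed_of_E_top (hn : 3 ≤ n) (h : Φ.E ρ 1 = ⊤) (g : OG Q) (v : V) : ρ g v = v := by
  have hn0 : 0 < n := by omega
  have he : ∀ u : V, ∀ x, polar ⇑Q (Φ.e 0) x = 0 → ρ (Φ.em (Φ.e 0) x) u = u := fun u x hx =>
    (Φ.mem_E ρ).1 (h ▸ Submodule.mem_top : u ∈ Φ.E ρ 1) 0 one_pos x fun l hl => by
      rwa [Nat.le_zero.1 hl]
  obtain ⟨a1, -, -, -⟩ := Φ.nEl_spec (Φ.hpair hn0) (Φ.pez 0 hn0) (Φ.pfz 0 hn0) Φ.qz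
  refine fix_all Φ (fun x hx => he v x (W_e hx le_rfl)) (fun x hx => ?_) g
  obtain ⟨N, hN⟩ : ∃ N, N = Φ.nEl (Φ.e 0) (Φ.f 0) Φ.z := ⟨_, rfl⟩
  rw [← hN] at a1
  obtain ⟨w, hw⟩ : ∃ w, w = (-Q Φ.z)⁻¹ • act N⁻¹ x := ⟨_, rfl⟩
  have hwe : polar ⇑Q (Φ.e 0) w = 0 := by
    rw [hw, pl_smul_right, ← act_polar N, a1, act_act_inv, pl_smul_left, W_f hx le_rfl, mul_zero, mul_zero]
  have h1 : Φ.em (Φ.f 0) x = N * Φ.em (Φ.e 0) w * N⁻¹ := by
    rw [Φ.mul_em, mul_inv_cancel_right, a1, hw, map_smul, act_act_inv, Φ.em_smul_left, smul_smul,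
      mul_inv_cancel₀ (neg_ne_zero.2 Φ.qz), one_smul]
  rw [h1, map_mul, map_mul, Module.End.mul_apply, Module.End.mul_apply, he _ w hwe, ← Module.End.mul_apply,
    ← map_mul, mul_inv_cancel, map_one, Module.End.one_apply]

end Frame

/-- The bound for representations without invariant vectors. -/
theorem degree_bound [Nontrivial V] (Ψ : Frame Q n) (hn : 3 ≤ n) (hq : 3 < Fintype.card F)
    (hfix : ∀ v : V, (∀ g, ρ g v = v) → v = 0) :
    Fintype.card F ^ (2 * n) ≤ (Fintype.card F ^ 2 - 1) * finrank ℂ V + 1 := by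
  by_contra hlt
  push Not at hlt
  obtain ⟨v0, hv0⟩ := exists_ne (0 : V)
  obtain ⟨v, hv, hg⟩ := (Frame.Small.mk hn hq
    (fun h => hv0 (hfix v0 fun g => Frame.fixed_of_E_top hn h g v0)) hlt : Ψ.Small ρ).exists_fixed
  exact hv (hfix v hg)

end Cfsg.Agent.OrthMinDegree
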