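import Cfsg.Agent.Lib.OrthMinDegree.Weights
import Cfsg.Agent.EqLemmas
/-
A vector fixed by a Borel subgroup in a small representation is fixed by the whole group.
* Ip: an invariant inner product; nEl_link; fourier_zero; gauss_not_const
* Small.opp_step, Small.fix_all
-/
set_option autoImplicit false
set_option linter.unusedSectionVars false

namespace Cfsg.Agent.OrthMinDegree

open Cfsg Module
open Cfsg.Agent.Orth
open Cfsg.Agent.SUMinDegree (rep_injective)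
open QuadraticMap (polar)

/-! ### An invariant inner product -/

section Inner

open scoped ComplexConjugate

variable {G : Type*} [Group G] [Fintype G] {V : Type*} [AddCommGroup V] [Module ℂ V] [FiniteDimensional ℂ V]
  (ρ : Representation ℂ G V)

/-- The averaged inner product, linear in the first argument. -/
noncomputable def Ip (u w : V) : ℂ :=
  ∑ g : G, ∑ i, (Module.finBasis ℂ V).repr (ρ g u) i * conj ((Module.finBasis ℂ V).repr (ρ g w) i)

theorem Ip_add_left (u u' w : V) : Ip ρ (u + u') w = Ip ρ u w + Ip ρ u' w := by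
  simp only [Ip, map_add, Finsupp.add_apply, add_mul, Finset.sum_add_distrib]

theorem Ip_smul_left (c : ℂ) (u w : V) : Ip ρ (c • u) w = c * Ip ρ u w := by
  simp only [Ip, map_smul, Finsupp.smul_apply, smul_eq_mul, Finset.mul_sum, mul_assoc]

theorem Ip_zero_left (w : V) : Ip ρ 0 w = 0 := by simp [Ip]

theorem Ip_sum_left {α : Type*} (s : Finset α) (f : α → V) (w : V) :
    Ip ρ (∑ a ∈ s, f a) w = ∑ a ∈ s, Ip ρ (f a) w := by
  classical
  induction s using Finset.induction_on with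
  | empty => simp [Ip_zero_left]
  | insert a s ha ih => rw [Finset.sum_insert ha, Finset.sum_insert ha, Ip_add_left, ih]

theorem Ip_sub_left (u u' w : V) : Ip ρ (u - u') w = Ip ρ u w - Ip ρ u' w :=
  eq_sub_of_add_eq (by rw [← Ip_add_left, sub_add_cancel])

theorem Ip_conj (u w : V) : conj (Ip ρ u w) = Ip ρ w u := by
  simp only [Ip, map_sum, map_mul, Complex.conj_conj, mul_comm]

theorem Ip_sub_right (u w w' : V) : Ip ρ u (w - w') = Ip ρ u w - Ip ρ u w' := by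
  rw [← Ip_conj ρ (w - w') u, Ip_sub_left, map_sub, Ip_conj, Ip_conj]

theorem Ip_rep (g : G) (u w : V) : Ip ρ (ρ g u) (ρ g w) = Ip ρ u w := by
  refine Fintype.sum_equiv (Equiv.mulRight g) _ _ fun h => ?_
  simp only [Equiv.coe_mulRight, ← Module.End.mul_apply, ← map_mul]

theorem Ip_self_eq_zero {u : V} (h : Ip ρ u u = 0) : u = 0 := by
  have h1 := congrArg Complex.re h
  simp only [Ip, Complex.mul_conj, Complex.re_sum, Complex.ofReal_re, Complex.zero_re] at h1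
  have h2 := (Finset.sum_eq_zero_iff_of_nonneg
    fun g _ => Finset.sum_nonneg fun i _ => Complex.normSq_nonneg _).1 h1 1 (Finset.mem_univ _)
  rw [Finset.sum_eq_zero_iff_of_nonneg fun i _ => Complex.normSq_nonneg _] at h2
  refine (Module.finBasis ℂ V).repr.map_eq_zero_iff.1 (Finsupp.ext fun i => ?_)
  have := Complex.normSq_eq_zero.1 (h2 i (Finset.mem_univ i))
  simpa using this

/-- Equality case. -/
theorem fixed_of_Ip {g : G} {v : V} (h : Ip ρ (ρ g v) v = Ip ρ v v) : ρ g v = v := by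
  refine sub_eq_zero.1 (Ip_self_eq_zero ρ ?_)
  rw [Ip_sub_left, Ip_sub_right, Ip_sub_right, Ip_rep, h, ← Ip_conj ρ (ρ g v) v, h, Ip_conj]
  ring

end Inner

variable {ι : Type} [Fintype ι] [DecidableEq ι] {F : Type*} [Field F] [Fintype F]
variable {Q : QuadraticForm F (ι → F)} {n : ℕ} (Φ : Frame Q n)
variable {V : Type} [AddCommGroup V] [Module ℂ V] [FiniteDimensional ℂ V] (ρ : Representation ℂ (OG Q) V)

theorem sum_psi_mul (b : F) [Decidable (b = 0)] :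
    ∑ t : F, psi F (t * b) = if b = 0 then (Fintype.card F : ℂ) else 0 := by
  classical
  rw [psi, AddChar.sum_mulShift b (AddChar.FiniteField.primitiveChar_to_Complex_isPrimitive F)]
  split_ifs <;> simp

namespace Frame

theorem em_nEl {e f w : ι → F} (he : Q e = 0) (hew : polar ⇑Q e w = 0) :
    Φ.em f w = Φ.em e (-((Q w)⁻¹ • w)) * Φ.nEl e f w * Φ.em e (-((Q w)⁻¹ • w)) := by
  have h1 : polar ⇑Q e ((Q w)⁻¹ • w) = 0 := by rw [pl_smul_right, hew, mul_zero]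
  have h2 : polar ⇑Q e (-((Q w)⁻¹ • w)) = 0 := by rw [pl_neg_right, h1, neg_zero]
  rw [nEl, mul_assoc, mul_assoc, ← Φ.em_add he h1 h2, add_neg_cancel, Φ.em_zero, mul_one, ← mul_assoc,
    ← Φ.em_add he h2 h1, neg_add_cancel, Φ.em_zero, one_mul]

/-- Two reflections in a hyperbolic plane differ by a torus element. -/
theorem nEl_link {k : ℕ} (hk : k + 1 < n) {a b : F} (ha : a ≠ 0) (hb : b ≠ 0) :
    Φ.nEl (Φ.e k) (Φ.f k) (a • Φ.e (k + 1) + b • Φ.f (k + 1)) *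
        (Φ.pairT k (k + 1) (a * b)⁻¹ * Φ.sqT Φ.z (k + 1) b) =
      Φ.nEl (Φ.e k) (Φ.f k) (Φ.e (k + 1) + Φ.f (k + 1)) := by
  have hk' : k < n := by omega
  have hp := Φ.hpair hk
  have hab : a * b ≠ 0 := mul_ne_zero ha hb
  have hgen : ∀ a b : F, a ≠ 0 → b ≠ 0 → ∀ w, w = a • Φ.e (k + 1) + b • Φ.f (k + 1) →
      act (Φ.nEl (Φ.e k) (Φ.f k) w) (Φ.e k) = (-(a * b)) • Φ.f k ∧
      act (Φ.nEl (Φ.e k) (Φ.f k) w) (Φ.f k) = (-(a * b)⁻¹) • Φ.e k ∧
      act (Φ.nEl (Φ.e k) (Φ.f k) w) (Φ.e (k + 1)) = (-(b / a)) • Φ.f (k + 1) ∧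
      act (Φ.nEl (Φ.e k) (Φ.f k) w) (Φ.f (k + 1)) = (-(a / b)) • Φ.e (k + 1) ∧
      (∀ l, l < n → l ≠ k → l ≠ k + 1 → act (Φ.nEl (Φ.e k) (Φ.f k) w) (Φ.e l) = Φ.e l ∧
        act (Φ.nEl (Φ.e k) (Φ.f k) w) (Φ.f l) = Φ.f l) ∧
      act (Φ.nEl (Φ.e k) (Φ.f k) w) Φ.z = Φ.z := by
    intro a b ha hb w hw
    have hew : polar ⇑Q (Φ.e k) w = 0 := by
      rw [hw, pl_add_right, pl_smul_right, pl_smul_right, Φ.pee hk' hk, Φ.pnef k (k + 1) hk' hk (by omega)]
      ring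
    have hfw : polar ⇑Q (Φ.f k) w = 0 := by
      rw [hw, pl_add_right, pl_smul_right, pl_smul_right, Φ.pnfe hk' hk (by omega), Φ.pff hk' hk]
      ring
    have hQw : Q w = a * b := by
      have := hp.Q_comb (zero_mem _) a b
      rwa [add_zero, ← hw, QuadraticMap.map_zero, add_zero] at this
    obtain ⟨x', hx'⟩ : ∃ x', x' = a • Φ.e (k + 1) - b • Φ.f (k + 1) := ⟨_, rfl⟩
    obtain ⟨n1, n2, n3, n4⟩ := Φ.nEl_spec (Φ.hpair hk') hew hfw (by rw [hQw]; exact mul_ne_zero ha hb)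
    have hx'fix : act (Φ.nEl (Φ.e k) (Φ.f k) w) x' = x' := by
      refine n4 x' ?_ ?_ ?_
      · rw [hx', pl_sub_right, pl_smul_right, pl_smul_right, Φ.pee hk' hk, Φ.pnef k (k + 1) hk' hk (by omega)]
        ring
      · rw [hx', pl_sub_right, pl_smul_right, pl_smul_right, Φ.pnfe hk' hk (by omega), Φ.pff hk' hk]
        ring
      · rw [hw, hx']
        simp only [pl_add_left, pl_sub_right, pl_smul_left, pl_smul_right, Φ.pee hk hk, Φ.pff hk hk, Φ.pef _ hk,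
          Φ.pfe hk]
        ring
    have h2 : (2 : F) ≠ 0 := Φ.h2
    have he1 : (2 * a) • act (Φ.nEl (Φ.e k) (Φ.f k) w) (Φ.e (k + 1)) = (-(2 * b)) • Φ.f (k + 1) := by
      rw [← map_smul, show (2 * a) • Φ.e (k + 1) = w + x' by rw [hw, hx']; module, map_add, n3, hx'fix, hw, hx']
      module
    have hf1 : (2 * b) • act (Φ.nEl (Φ.e k) (Φ.f k) w) (Φ.f (k + 1)) = (-(2 * a)) • Φ.e (k + 1) := by
      rw [← map_smul, show (2 * b) • Φ.f (k + 1) = w - x' by rw [hw, hx']; module, map_sub, n3, hx'fix, hw, hx']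
      module
    refine ⟨by rw [n1, hQw], by rw [n2, hQw], smul_right_injective _ (mul_ne_zero h2 ha) ?_,
      smul_right_injective _ (mul_ne_zero h2 hb) ?_, fun l hl h1 h1' => ⟨?_, ?_⟩, ?_⟩
    · dsimp only
      rw [he1, smul_smul]
      congr 1
      field_simp
    · dsimp only
      rw [hf1, smul_smul]
      congr 1
      field_simp
    · refine n4 _ (Φ.pee hk' hl) (Φ.pnfe hk' hl h1.symm) ?_
      rw [hw, pl_add_left, pl_smul_left, pl_smul_left, Φ.pee hk hl, Φ.pnfe hk hl h1'.symm]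
      ring
    · refine n4 _ (Φ.pnef k l hk' hl h1.symm) (Φ.pff hk' hl) ?_
      rw [hw, pl_add_left, pl_smul_left, pl_smul_left, Φ.pnef _ l hk hl h1'.symm, Φ.pff hk hl]
      ring
    · refine n4 _ (Φ.pez k hk') (Φ.pfz k hk') ?_
      rw [hw, pl_add_left, pl_smul_left, pl_smul_left, Φ.pez _ hk, Φ.pfz _ hk]
      ring
  obtain ⟨g1, g2, g3, g4, g5, g6⟩ := hgen a b ha hb _ rfl
  obtain ⟨i1, i2, i3, i4, i5, i6⟩ := hgen 1 1 one_ne_zero one_ne_zero (Φ.e (k + 1) + Φ.f (k + 1))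
    (by rw [one_smul, one_smul])
  obtain ⟨p1, p2, p3, p4, p5⟩ := Φ.pairT_spec hk' hk (by omega) (inv_ne_zero hab)
  obtain ⟨q1, q2, q3⟩ := Φ.sqT_spec hk (Φ.pez _ hk) (Φ.pfz _ hk) Φ.qz hb
  refine Φ.ext (fun l hl => ?_) (fun l hl => ?_) fun x hx => ?_
  · rw [act_mul, act_mul]
    rcases eq_or_ne l k with rfl | hlk
    · rw [q3 _ (Φ.pee hk hl) (Φ.pnfe hk hl (by omega)), p1, map_smul, g1, smul_smul, i1]
      congr 1
      field_simp
    rcases eq_or_ne l (k + 1) with rfl | hlk1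
    · rw [q1, map_smul, p2, smul_smul, map_smul, g3, smul_smul, i3]
      congr 1
      field_simp
    · rw [q3 _ (Φ.pee hk hl) (Φ.pnfe hk hl hlk1.symm), p5 _ (Φ.pee hk' hl) (Φ.pnfe hk' hl hlk.symm)
        (Φ.pee hk hl) (Φ.pnfe hk hl hlk1.symm), (g5 l hl hlk hlk1).1, (i5 l hl hlk hlk1).1]
  · rw [act_mul, act_mul]
    rcases eq_or_ne l k with rfl | hlk
    · rw [q3 _ (Φ.pnef _ l hk hl (by omega)) (Φ.pff hk hl), p3, map_smul, g2, smul_smul, i2]
      congr 1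
      field_simp
    rcases eq_or_ne l (k + 1) with rfl | hlk1
    · rw [q2, map_smul, p4, smul_smul, map_smul, g4, smul_smul, i4]
      congr 1
      field_simp
    · rw [q3 _ (Φ.pnef _ l hk hl hlk1.symm) (Φ.pff hk hl), p5 _ (Φ.pnef k l hk' hl hlk.symm) (Φ.pff hk' hl)
        (Φ.pnef _ l hk hl hlk1.symm) (Φ.pff hk hl), (g5 l hl hlk hlk1).2, (i5 l hl hlk hlk1).2]
  · obtain ⟨c, rfl⟩ := Φ.hcore x fun i hi => hx i (by omega)
    rw [map_smul, map_smul, act_mul, act_mul, q3 _ (Φ.pez _ hk) (Φ.pfz _ hk),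
      p5 _ (Φ.pez _ hk') (Φ.pfz _ hk') (Φ.pez _ hk) (Φ.pfz _ hk), g6, i6]

variable {Φ ρ}

/-- The opposite radical has no component at a non-singular character. -/
theorem Small.fourier_zero (h : Φ.Small ρ) {k : ℕ} (hk : k < n) [Fintype (Φ.W k)] {v : V}
    (hv : v ∈ Φ.E ρ k) {y : ι → F} (hy : y ∈ Φ.W k) (hyQ : Q y ≠ 0) :
    ∑ z : Φ.W k, psi F (-polar ⇑Q y z) • ρ (Φ.em (Φ.f k) z) v = 0 := by
  classical
  obtain ⟨X, hX⟩ : ∃ X, X = ∑ z : Φ.W k, psi F (-polar ⇑Q y z) • ρ (Φ.em (Φ.f k) z) v := ⟨_, rfl⟩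
  rw [← hX]
  have hXE : X ∈ Φ.E ρ k := hX ▸ Submodule.sum_mem _ fun z _ => Submodule.smul_mem _ _
    (Φ.mapsTo_E_fix ρ (fun j hj => Φ.act_em_fix (Φ.qf k hk) (W_f z.2 le_rfl)
      (Φ.pnfe hk (by omega) (by omega)) (by rw [pl_comm]; exact W_e z.2 (by omega))) hv)
  have hXeig : ∀ x ∈ Φ.W k, ρ (Φ.em (Φ.f k) x) X = psi F (polar ⇑Q y x) • X := by
    intro x hx
    rw [hX, map_sum, Finset.smul_sum]
    refine Fintype.sum_equiv (Equiv.addLeft (⟨x, hx⟩ : Φ.W k)) _ _ fun z => ?_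
    rw [Equiv.coe_addLeft, map_smul, smul_smul, ← AddChar.map_add_eq_mul, Submodule.coe_add,
      Φ.em_add (Φ.qf k hk) (W_f hx le_rfl) (W_f z.2 le_rfl), map_mul, Module.End.mul_apply]
    congr 2
    show -polar ⇑Q y z.1 = polar ⇑Q y x + -polar ⇑Q y (x + z.1)
    rw [pl_add_right]; ring
  obtain ⟨N, hN⟩ : ∃ N, N = Φ.nEl (Φ.e k) (Φ.f k) Φ.z := ⟨_, rfl⟩
  obtain ⟨a1, a2, -, a4⟩ := Φ.nEl_spec (Φ.hpair hk) (Φ.pez k hk) (Φ.pfz k hk) Φ.qz
  rw [← hN] at a1 a2 a4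
  have hc : -Q Φ.z ≠ 0 := neg_ne_zero.2 Φ.qz
  have hfix : ∀ j, j < k → act N (Φ.e j) = Φ.e j ∧ act N (Φ.f j) = Φ.f j := fun j hj =>
    ⟨a4 _ (Φ.pee hk (by omega)) (Φ.pnfe hk (by omega) (by omega)) (by rw [pl_comm]; exact Φ.pez j (by omega)),
      a4 _ (Φ.pnef k j hk (by omega) (by omega)) (Φ.pff hk (by omega))
        (by rw [pl_comm]; exact Φ.pfz j (by omega))⟩
  have hfinv : act N⁻¹ (Φ.f k) = (-Q Φ.z)⁻¹ • Φ.e k := by
    have h1 : act N ((-Q Φ.z)⁻¹ • Φ.e k) = Φ.f k := by rw [map_smul, a1, smul_smul, inv_mul_cancel₀ hc, one_smul]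
    conv_lhs => rw [← h1, act_inv_act]
  have heinv : act N⁻¹ (Φ.e k) = (-(Q Φ.z)⁻¹)⁻¹ • Φ.f k := by
    have hc' : -(Q Φ.z)⁻¹ ≠ 0 := neg_ne_zero.2 (inv_ne_zero Φ.qz)
    have h1 : act N ((-(Q Φ.z)⁻¹)⁻¹ • Φ.f k) = Φ.e k := by rw [map_smul, a2, smul_smul, inv_mul_cancel₀ hc', one_smul]
    conv_lhs => rw [← h1, act_inv_act]
  have hNW : ∀ x ∈ Φ.W k, act N x ∈ Φ.W k := fun x hx j hj => by
    rcases eq_or_lt_of_le hj with rfl | hlt
    · exact ⟨by rw [← act_polar N⁻¹, act_inv_act, heinv, pl_smul_left, W_f hx le_rfl, mul_zero],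
        by rw [← act_polar N⁻¹, act_inv_act, hfinv, pl_smul_left, W_e hx le_rfl, mul_zero]⟩
    · obtain ⟨h1, h2⟩ := hfix j hlt
      exact ⟨by rw [← h1, act_polar, W_e hx hj], by rw [← h2, act_polar, W_f hx hj]⟩
  have hy' : (-Q Φ.z) • act N⁻¹ y ∈ Φ.W k := Submodule.smul_mem _ _ fun j hj => by
    rcases eq_or_lt_of_le hj with rfl | hlt
    · exact ⟨by rw [← act_polar N, act_act_inv, a1, pl_smul_left, W_f hy le_rfl, mul_zero],
        by rw [← act_polar N, act_act_inv, a2, pl_smul_left, W_e hy le_rfl, mul_zero]⟩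
    · obtain ⟨h1, h2⟩ := hfix j hlt
      exact ⟨by rw [← act_polar N, h1, act_act_inv, W_e hy hj],
        by rw [← act_polar N, h2, act_act_inv, W_f hy hj]⟩
  have hQy' : Q ((-Q Φ.z) • act N⁻¹ y) ≠ 0 := by
    rw [Q_smul, act_Q]
    exact mul_ne_zero (mul_ne_zero hc hc) hyQ
  have hmem : ρ N⁻¹ X ∈ Φ.M ρ k ((-Q Φ.z) • act N⁻¹ y) := by
    refine (Φ.mem_M ρ).2 ⟨Φ.mapsTo_E_fix ρ (fun j hj => by conv_lhs => rw [← (hfix j hj).1, act_inv_act]) hXE,
      fun x hx => ?_⟩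
    have h1 : Φ.em (Φ.e k) x * N⁻¹ = N⁻¹ * Φ.em (Φ.f k) ((-Q Φ.z) • act N x) := by
      rw [Φ.mul_em N⁻¹, hfinv, map_smul, act_inv_act, Φ.em_smul_left, smul_smul, inv_mul_cancel₀ hc, one_smul]
    rw [← Module.End.mul_apply, ← map_mul, h1, map_mul, Module.End.mul_apply,
      hXeig _ (Submodule.smul_mem _ _ (hNW x hx)), map_smul, pl_smul_left, pl_smul_right,
      ← act_polar N (act N⁻¹ y), act_act_inv]
  rw [(h.thin hk hy' (fun h0 => hQy' (by rw [h0, QuadraticMap.map_zero]))).2 hQy', Submodule.mem_bot] at hmem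
  exact rep_injective ρ N⁻¹ (hmem.trans (map_zero _).symm)

variable (Φ)

open Classical in
/-- The Gauss sums of the singular vectors are not constant. -/
theorem gauss_not_const {k : ℕ} (hk : k + 1 < n) [Fintype (Φ.W k)] (C : ℂ)
    (h : ∀ t : F, t ≠ 0 → ∑ z : Φ.W k,
      (if Q z.1 = 0 then psi F (-polar ⇑Q (Φ.e (k + 1) + t • Φ.f (k + 1)) z) else 0) = C) : False := by
  have := Fintype.ofFinite (Φ.W (k + 1))
  obtain ⟨G, hG⟩ : ∃ G : F → ℂ, ∀ c, G c = ∑ u : Φ.W (k + 1), psi F (c * Q u.1) := ⟨_, fun c => rfl⟩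
  obtain ⟨g, hg⟩ : ∃ g : F → ℂ, ∀ A, g A = ∑ B : F, ∑ u : Φ.W (k + 1),
      if A * B + Q u.1 = 0 then psi F (-B) else 0 := ⟨_, fun A => rfl⟩
  obtain ⟨S, hS⟩ : ∃ S : F → ℂ, ∀ t, S t = ∑ A : F, psi F (-(t * A)) * g A := ⟨_, fun t => rfl⟩
  have hST : ∀ t : F, t ≠ 0 → S t = C := fun t ht => by
    rw [← h t ht, ← (Φ.wEquiv hk).sum_comp, Fintype.sum_prod_type, hS]
    refine Finset.sum_congr rfl fun A _ => ?_
    rw [hg, Fintype.sum_prod_type, Finset.mul_sum]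
    refine Finset.sum_congr rfl fun B _ => ?_
    rw [Finset.mul_sum]
    refine Finset.sum_congr rfl fun u _ => ?_
    have hQ : Q ((Φ.wEquiv hk) (A, B, u)).1 = A * B + Q u.1 :=
      (Φ.hpair hk).Q_comb (mem_perp_of_W u.2 le_rfl) A B
    rw [hQ]
    split_ifs with hz
    · show _ = psi F (-polar ⇑Q _ (A • Φ.e (k + 1) + B • Φ.f (k + 1) + u.1))
      simp only [pl_add_left, pl_add_right, pl_smul_left, pl_smul_right, Φ.pee hk hk, Φ.pff hk hk, Φ.pef _ hk,
        Φ.pfe hk, W_e u.2 le_rfl, W_f u.2 le_rfl]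
      rw [← AddChar.map_add_eq_mul]
      congr 1
      ring
    · rw [mul_zero]
  have hgG : ∀ A : F, A ≠ 0 → g A = G A⁻¹ := fun A hA => by
    rw [hg, Finset.sum_comm, hG]
    refine Finset.sum_congr rfl fun u _ => ?_
    rw [Finset.sum_eq_single (-Q u.1 / A) (fun B _ hB => if_neg fun h0 => hB ?_)
      (fun hh => absurd (Finset.mem_univ _) hh), if_pos]
    · congr 1
      field_simp
    · field_simp
      ring
    · field_simp
      linear_combination h0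
  have hinv : ∀ A0 : F, A0 ≠ 0 → (Fintype.card F : ℂ) * G A0⁻¹ = S 0 - C := fun A0 hA0 => by
    have h1 : ∑ t : F, psi F (t * A0) * S t = (Fintype.card F : ℂ) * g A0 := by
      simp only [hS, Finset.mul_sum]
      rw [Finset.sum_comm, Finset.sum_eq_single A0]
      · simp only [← mul_assoc, ← AddChar.map_add_eq_mul, add_neg_cancel, AddChar.map_zero_eq_one, one_mul,
          Finset.sum_const, Finset.card_univ, nsmul_eq_mul]
      · intro A _ hA
        simp only [← mul_assoc, ← AddChar.map_add_eq_mul, ← sub_eq_add_neg, ← mul_sub]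
        rw [← Finset.sum_mul, sum_psi_mul, if_neg (sub_ne_zero.2 (Ne.symm hA)), zero_mul]
      · exact fun hh => absurd (Finset.mem_univ _) hh
    have h2 : ∑ t ∈ Finset.univ.erase (0 : F), psi F (t * A0) = -1 := by
      have := sum_psi_mul A0
      rw [if_neg hA0, ← Finset.add_sum_erase _ _ (Finset.mem_univ (0 : F)), zero_mul,
        AddChar.map_zero_eq_one] at this
      linear_combination this
    rw [hgG A0 hA0] at h1
    rw [← h1, ← Finset.add_sum_erase _ _ (Finset.mem_univ (0 : F)),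
      Finset.sum_congr rfl fun t ht => by rw [hST t (Finset.ne_of_mem_erase ht)], ← Finset.sum_mul, h2,
      zero_mul, AddChar.map_zero_eq_one]
    ring
  have hq0 : (Fintype.card F : ℂ) ≠ 0 := Nat.cast_ne_zero.2 Fintype.card_ne_zero
  obtain ⟨γ, hγ⟩ : ∃ γ, ∀ c : F, c ≠ 0 → G c = γ := ⟨(S 0 - C) / Fintype.card F, fun c hc => by
    rw [eq_div_iff hq0, mul_comm, ← hinv c⁻¹ (inv_ne_zero hc), inv_inv]⟩
  -- the number of singular vectors
  have hγ0 : γ = 0 := by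
    have hc := Φ.card_singular (n - 1 - (k + 1)) (by omega)
    have hc' := Φ.card_W (n - 1 - (k + 1)) (by omega)
    rw [show n - 1 - (n - 1 - (k + 1)) = k + 1 by omega, Nat.card_eq_fintype_card] at hc hc'
    rw [Fintype.card_subtype] at hc
    have hsum : ∑ c : F, G c = (Fintype.card (Φ.W (k + 1)) : ℂ) := by
      simp only [hG]
      rw [Finset.sum_comm, Finset.sum_congr rfl fun u _ => sum_psi_mul (Q u.1), ← Finset.sum_filter,
        Finset.sum_const, hc, hc', nsmul_eq_mul]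
      push_cast
      ring
    have h0 : G 0 = (Fintype.card (Φ.W (k + 1)) : ℂ) := by simp [hG]
    rw [← Finset.add_sum_erase _ _ (Finset.mem_univ (0 : F)), h0,
      Finset.sum_congr rfl fun c hc => hγ c (Finset.ne_of_mem_erase hc), Finset.sum_const, add_eq_left,
      smul_eq_zero] at hsum
    refine hsum.resolve_left ?_
    rw [Finset.card_erase_of_mem (Finset.mem_univ _), Finset.card_univ]
    have : 1 < Fintype.card F := Fintype.one_lt_card
    omega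
  -- but the Gauss sum has non-zero absolute value
  have hprod : G 1 * G (-1) = (Fintype.card (Φ.W (k + 1)) : ℂ) := by
    rw [hG, hG, Finset.sum_mul_sum, Finset.sum_comm]
    rw [Finset.sum_congr rfl fun u' _ => (Fintype.sum_equiv (Equiv.addLeft u') _ _ fun d => rfl).symm]
    rw [Finset.sum_comm]
    have he : ∀ d u' : Φ.W (k + 1), psi F (1 * Q (Equiv.addLeft u' d).1) * psi F (-1 * Q u'.1) =
        psi F (Q d.1) * Φ.chi (k + 1) d.1 u' := fun d u' => by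
      rw [chi_apply, ← AddChar.map_add_eq_mul, ← AddChar.map_add_eq_mul]
      congr 1
      show 1 * Q (u'.1 + d.1) + -1 * Q u'.1 = _
      rw [Q_add, pl_comm Q d.1]
      ring
    simp only [he, ← Finset.mul_sum]
    rw [Finset.sum_eq_single (0 : Φ.W (k + 1))]
    · simp [chi_apply, pl_zero_left]
    · intro d _ hd
      rw [AddChar.sum_eq_zero_iff_ne_zero.2 ?_, mul_zero]
      intro h0
      refine hd (Φ.chi_injective hk (a₂ := 0) (DFunLike.ext _ _ fun u => ?_))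
      show Φ.chi (k + 1) d.1 u = Φ.chi (k + 1) 0 u
      rw [h0, AddChar.zero_apply, chi_apply, pl_zero_left, AddChar.map_zero_eq_one]
    · exact fun hh => absurd (Finset.mem_univ _) hh
  rw [hγ 1 one_ne_zero, hγ0, zero_mul, eq_comm, Nat.cast_eq_zero] at hprod
  exact Fintype.card_ne_zero hprod

variable {Φ}

theorem Small.opp_step (h : Φ.Small ρ) {k : ℕ} (hk : k + 1 < n) {v : V} (hv : v ∈ Φ.E ρ n)
    (hsq : ∀ j, j < n → ∀ y : F, y ≠ 0 → ρ (Φ.sqT Φ.z j y) v = v)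
    (hpair : ∀ i j, i < n → j < n → i ≠ j → ∀ x : F, x ≠ 0 → ρ (Φ.pairT i j x) v = v)
    (hopp : ∀ x ∈ Φ.W (k + 1), ρ (Φ.em (Φ.f (k + 1)) x) v = v) :
    ∀ x ∈ Φ.W k, ρ (Φ.em (Φ.f k) x) v = v := by
  classical
  have := Fintype.ofFinite (OG Q)
  have := Fintype.ofFinite (Φ.W k)
  have hn := h.hn
  have hk' : k < n := by omega
  obtain ⟨P, hP⟩ : ∃ P : (ι → F) → ℂ, ∀ z, P z = Ip ρ (ρ (Φ.em (Φ.f k) z) v) v := ⟨_, fun z => rfl⟩
  have hinv : ∀ g : OG Q, act g (Φ.f k) = Φ.f k → ρ g v = v → ∀ z, P z = P (act g z) := fun g hg hgv z => by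
    rw [hP, hP, ← Ip_rep ρ g (ρ (Φ.em (Φ.f k) z) v) v, hgv, ← Module.End.mul_apply, ← map_mul, Φ.mul_em, hg,
      map_mul, Module.End.mul_apply, hgv]
  have hmove : ∀ u ∈ ({Φ.e (k + 1), Φ.f (k + 1)} : Set (ι → F)), ∀ y ∈ Φ.W (k + 1), ∀ x ∈ Φ.W k,
      P x = P (act (Φ.em u y) x) := by
    intro u hu y hy x _
    refine hinv _ ?_ ?_ x
    · rcases hu with rfl | rfl
      · exact Φ.act_em_fix (Φ.qe _ hk) (W_e hy le_rfl) (Φ.pnef _ k hk hk' (by omega))
          (by rw [pl_comm]; exact W_f hy (Nat.le_succ k))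
      · exact Φ.act_em_fix (Φ.qf _ hk) (W_f hy le_rfl) (Φ.pff hk hk')
          (by rw [pl_comm]; exact W_f hy (Nat.le_succ k))
    · rcases hu with rfl | rfl
      · exact (Φ.mem_E ρ).1 hv (k + 1) hk y fun i hi => W_e hy hi
      · exact hopp y hy
  obtain ⟨j0, hj0, hjk, hjk'⟩ : ∃ j, j < n ∧ k + 1 ≠ j ∧ j ≠ k := by
    rcases eq_or_ne k 0 with hk0 | hk0
    · exact ⟨2, by omega, by omega, by omega⟩
    · exact ⟨0, by omega, by omega, Ne.symm hk0⟩
  obtain ⟨A, hA⟩ : ∃ A, A = P (Φ.f (k + 1)) := ⟨_, rfl⟩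
  obtain ⟨B, hB⟩ : ∃ B, B = P (Φ.e (k + 1) + Φ.f (k + 1)) := ⟨_, rfl⟩
  obtain ⟨C0, hC0⟩ : ∃ C0, C0 = P 0 := ⟨_, rfl⟩
  have hcomb : ∀ a b : F, a • Φ.e (k + 1) + b • Φ.f (k + 1) ∈ Φ.W k := fun a b =>
    add_mem (Submodule.smul_mem _ _ (e_mem_W hk (Nat.lt_succ_self k)))
      (Submodule.smul_mem _ _ (f_mem_W hk (Nat.lt_succ_self k)))
  have hN : ∀ w ∈ Φ.W k, Q w ≠ 0 → P w = Ip ρ (ρ (Φ.nEl (Φ.e k) (Φ.f k) w) v) v := fun w hw hwQ => by
    have hw' : -((Q w)⁻¹ • w) ∈ Φ.W k := neg_mem (Submodule.smul_mem _ _ hw)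
    have hfix : ρ (Φ.em (Φ.e k) (-((Q w)⁻¹ • w))) v = v :=
      (Φ.mem_E ρ).1 hv k hk' _ fun i hi => W_e hw' hi
    rw [hP, Φ.em_nEl (Φ.qe k hk') (W_e hw le_rfl), map_mul, map_mul, Module.End.mul_apply, Module.End.mul_apply,
      hfix]
    conv_lhs => arg 3; rw [← hfix]
    rw [Ip_rep]
  have hsing : ∀ w ∈ Φ.W k, w ≠ 0 → Q w = 0 → P w = A := fun w hw hw0 hwQ => by
    obtain ⟨a, b, hb, hab, hPw⟩ := Φ.exists_move_gen P hk hmove hw hw0
    rw [hwQ, mul_eq_zero] at hab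
    obtain rfl : a = 0 := hab.resolve_right hb
    obtain ⟨-, -, p3, -, p5⟩ := Φ.pairT_spec hk hj0 hjk hb
    rw [hPw, hinv (Φ.pairT (k + 1) j0 b)
      (p5 _ (Φ.pnef _ k hk hk' (by omega)) (Φ.pff hk hk') (Φ.pnef j0 k hj0 hk' hjk') (Φ.pff hj0 hk'))
      (hpair _ _ hk hj0 hjk b hb), zero_smul, zero_add, map_smul, p3, smul_smul, mul_inv_cancel₀ hb, one_smul, hA]
  have hns : ∀ w ∈ Φ.W k, Q w ≠ 0 → P w = B := fun w hw hwQ => by
    obtain ⟨a, b, hb, hab, hPw⟩ := Φ.exists_move_gen P hk hmove hw fun h0 => hwQ (by rw [h0, QuadraticMap.map_zero])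
    have ha : a ≠ 0 := fun ha => hwQ (by rw [← hab, ha, zero_mul])
    have hQ1 : ∀ a b : F, Q (a • Φ.e (k + 1) + b • Φ.f (k + 1)) = a * b := fun a b => by
      have := (Φ.hpair hk).Q_comb (zero_mem _) a b
      rwa [add_zero, QuadraticMap.map_zero, add_zero] at this
    have hz0 : Φ.e (k + 1) + Φ.f (k + 1) = (1 : F) • Φ.e (k + 1) + (1 : F) • Φ.f (k + 1) := by
      rw [one_smul, one_smul]
    rw [hPw, hB, hN _ (hcomb a b) (by rw [hQ1]; exact mul_ne_zero ha hb),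
      hN _ (hz0 ▸ hcomb 1 1) (by rw [hz0, hQ1, one_mul]; exact one_ne_zero), ← Φ.nEl_link hk ha hb]
    have hfix : ρ (Φ.pairT k (k + 1) (a * b)⁻¹ * Φ.sqT Φ.z (k + 1) b) v = v := by
      rw [map_mul, Module.End.mul_apply, hsq _ hk b hb,
        hpair k (k + 1) hk' hk (by omega) _ (inv_ne_zero (mul_ne_zero ha hb))]
    conv_rhs => rw [map_mul, Module.End.mul_apply, hfix]
  have heq : ∀ t : F, t ≠ 0 → (C0 - A) + (A - B) * ∑ z : Φ.W k,
      (if Q z.1 = 0 then psi F (-polar ⇑Q (Φ.e (k + 1) + t • Φ.f (k + 1)) z) else 0) = 0 := by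
    intro t ht
    obtain ⟨y, hy⟩ : ∃ y, y = Φ.e (k + 1) + t • Φ.f (k + 1) := ⟨_, rfl⟩
    have hyW : y ∈ Φ.W k := hy ▸ add_mem (e_mem_W hk (Nat.lt_succ_self k))
      (Submodule.smul_mem _ _ (f_mem_W hk (Nat.lt_succ_self k)))
    have hyQ : Q y ≠ 0 := by
      rw [hy, Q_add, Q_smul, pl_smul_right, Φ.qe _ hk, Φ.qf _ hk, Φ.pef _ hk]
      simpa using ht
    have h1 := congrArg (fun x => Ip ρ x v) (h.fourier_zero hk' (Φ.E_anti ρ hk'.le hv) hyW hyQ)
    simp only [Ip_sum_left, Ip_smul_left, Ip_zero_left, ← hP] at h1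
    have hall : ∑ z : Φ.W k, psi F (-polar ⇑Q y z) = 0 := by
      have hne : Φ.chi k (-y) ≠ 0 := fun h0 => hyQ (by
        have h2 : (⟨-y, neg_mem hyW⟩ : Φ.W k) = 0 := Φ.chi_injective hk' (DFunLike.ext _ _ fun u => by
          show Φ.chi k (-y) u = Φ.chi k 0 u
          rw [h0, AddChar.zero_apply, chi_apply, pl_zero_left, AddChar.map_zero_eq_one])
        rw [neg_eq_zero.1 (congrArg Subtype.val h2), QuadraticMap.map_zero])
      rw [← AddChar.sum_eq_zero_iff_ne_zero.2 hne]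
      exact Finset.sum_congr rfl fun z _ => by rw [chi_apply, pl_neg_left]
    have hval : ∀ z : Φ.W k, psi F (-polar ⇑Q y z) * P z = B * psi F (-polar ⇑Q y z) +
        (A - B) * (if Q z.1 = 0 then psi F (-polar ⇑Q y z) else 0) + if z = 0 then C0 - A else 0 := fun z => by
      rcases eq_or_ne z 0 with rfl | hz
      · simp only [Submodule.coe_zero, pl_zero_right, neg_zero, AddChar.map_zero_eq_one, QuadraticMap.map_zero,
          if_true, hC0]
        ring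
      rw [if_neg hz]
      rcases eq_or_ne (Q z.1) 0 with hq | hq
      · rw [if_pos hq, hsing z.1 z.2 (fun h0 => hz (Subtype.ext h0)) hq]
        ring
      · rw [if_neg hq, hns z.1 z.2 hq]
        ring
    rw [Finset.sum_congr rfl fun z _ => hval z, Finset.sum_add_distrib, Finset.sum_add_distrib, ← Finset.mul_sum,
      ← Finset.mul_sum, hall, Finset.sum_ite_eq' Finset.univ (0 : Φ.W k), if_pos (Finset.mem_univ _)] at h1
    rw [← hy]
    linear_combination h1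
  have hAB : A = B := by
    by_contra hne
    exact Φ.gauss_not_const hk ((A - C0) / (A - B)) fun t ht => by
      rw [eq_div_iff (sub_ne_zero.2 hne)]
      linear_combination heq t ht
  have hC : C0 = A := by
    have := heq 1 one_ne_zero
    rw [hAB, sub_self, zero_mul, add_zero, sub_eq_zero] at this
    rw [this, hAB]
  intro x hx
  refine fixed_of_Ip ρ ?_
  have hx' : P x = C0 := by
    rcases eq_or_ne x 0 with rfl | hx0
    · exact hC0.symm
    rcases eq_or_ne (Q x) 0 with hq | hq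
    · rw [hsing x hx hx0 hq, hC]
    · rw [hns x hx hq, hC, hAB]
  rw [← hP, hx', hC0, hP, Φ.em_zero, map_one, Module.End.one_apply]

/-- Fixed by the two radicals at the first pair means fixed by everything. -/
theorem fix_all (Φ : Frame Q n) {v : V} (he : ∀ x ∈ Φ.W 0, ρ (Φ.em (Φ.e 0) x) v = v)
    (hf : ∀ x ∈ Φ.W 0, ρ (Φ.em (Φ.f 0) x) v = v) (g : OG Q) : ρ g v = v := by
  have hcl : eichPair Q (Φ.e 0) (Φ.f 0) ≤ Subgroup.map (Omega F ⇑Q).subtype
      { carrier := {g : OG Q | ρ g v = v}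
        one_mem' := by simp
        mul_mem' := fun {a b} (ha : ρ a v = v) (hb : ρ b v = v) => show ρ (a * b) v = v by
          rw [map_mul, Module.End.mul_apply, hb, ha]
        inv_mem' := fun {a} (ha : ρ a v = v) => show ρ a⁻¹ v = v by
          conv_lhs => rw [← ha, ← Module.End.mul_apply, ← map_mul, inv_mul_cancel, map_one, Module.End.one_apply] } := by
    rw [eichPair, Subgroup.closure_le]
    rintro _ ⟨w, hw, hor⟩
    have hwW : w ∈ Φ.W 0 := fun j hj => by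
      obtain rfl : j = 0 := by omega
      exact mem_perp.1 hw
    rcases hor with rfl | rfl
    · exact ⟨Φ.em (Φ.e 0) w, he w hwW, rfl⟩
    · exact ⟨Φ.em (Φ.f 0) w, hf w hwW, rfl⟩
  have hG := omega_eq_eichPair (Good.of_two_ne_zero Φ.nd Φ.h2) (by have := Φ.hn; omega) (.inr Φ.hn)
    (Φ.hpair Φ.n_pos)
  have hmem : (g : IsoGrp Q) ∈ eichPair Q (Φ.e 0) (Φ.f 0) := by rw [← hG]; exact g.2
  obtain ⟨g', hg', hgg⟩ := hcl hmem
  obtain rfl : g' = g := Subtype.ext hgg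
  exact hg'

end Frame

end Cfsg.Agent.OrthMinDegree
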