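import Cfsg.Agent.Lib.OrthMinDegree.Levels
import Cfsg.Agent.EqLemmas
/-
How the eigenspaces propagate along the filtration.
* exists_move_gen, finrank_M_reduce, finrank_M_square_class: transitivity
* card_W, card_singular: counting
* upper: dim M (k+1) w ≤ dim M k (-w);  lower: M (k+1) e_{k+2} ≠ ⊥
* Thin; thin_zero (otherwise the representation is big); thin_all, sum_levels
-/
set_option autoImplicit false
set_option linter.unusedSectionVars false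

namespace Cfsg.Agent.OrthMinDegree

open Cfsg Module
open Cfsg.Agent.Orth
open Cfsg.Agent.SUMinDegree (rep_injective)
open QuadraticMap (polar)

variable {ι : Type} [Fintype ι] [DecidableEq ι] {F : Type*} [Field F] [Fintype F]
variable {Q : QuadraticForm F (ι → F)} {n : ℕ} (Φ : Frame Q n)

/-- A scalar whose square is not one. -/
theorem exists_scalar (hq : 3 < Fintype.card F) : ∃ l : F, l ≠ 0 ∧ l * l ≠ 1 := by
  classical
  by_contra! h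
  have h1 : (Finset.univ : Finset F) ⊆ {0, 1, -1} := fun x _ => by
    rcases eq_or_ne x 0 with hx | hx
    · simp [hx]
    · rcases mul_self_eq_one_iff.1 (h x hx) with h2 | h2 <;> simp [h2]
  have := (Finset.card_le_card h1).trans Finset.card_le_three
  rw [Finset.card_univ] at this
  omega

namespace Frame

variable {Φ}

theorem mem_perp_of_W {k j : ℕ} {x : ι → F} (hx : x ∈ Φ.W k) (hj : j ≤ k) : x ∈ perp Q (Φ.e j) (Φ.f j) :=
  mem_perp.2 ⟨W_e hx hj, W_f hx hj⟩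

theorem W_coords {k : ℕ} {v : ι → F} (hv : v ∈ Φ.W k) :
    v = polar ⇑Q (Φ.f (k + 1)) v • Φ.e (k + 1) + polar ⇑Q (Φ.e (k + 1)) v • Φ.f (k + 1) +
      Φ.projW (k + 1) v := by
  conv_lhs => rw [Φ.decomp (k + 1) v, Finset.sum_range_succ]
  rw [Finset.sum_eq_zero fun j hj => by
    rw [W_f hv (Nat.lt_succ_iff.1 (Finset.mem_range.1 hj)), W_e hv (Nat.lt_succ_iff.1 (Finset.mem_range.1 hj)),
      zero_smul, zero_smul, add_zero], zero_add]

theorem Q_coords {k : ℕ} (hk : k + 1 < n) {v : ι → F} (hv : v ∈ Φ.W k) :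
    Q v = polar ⇑Q (Φ.f (k + 1)) v * polar ⇑Q (Φ.e (k + 1)) v + Q (Φ.projW (k + 1) v) := by
  conv_lhs => rw [W_coords hv]
  exact (Φ.hpair hk).Q_comb (mem_perp_of_W (Φ.projW_mem hk v) le_rfl) _ _

theorem comb_mem_W {k : ℕ} (hk : k + 1 < n) (a b : F) {w : ι → F} (hw : w ∈ Φ.W (k + 1)) :
    a • Φ.e (k + 1) + b • Φ.f (k + 1) + w ∈ Φ.W k :=
  add_mem (add_mem (Submodule.smul_mem _ _ (e_mem_W hk (Nat.lt_succ_self k)))
    (Submodule.smul_mem _ _ (f_mem_W hk (Nat.lt_succ_self k)))) (W_anti (Nat.le_succ k) hw)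

variable (Φ)

theorem pairT_diag {i j : ℕ} (hi : i < n) (hj : j < n) (hij : i ≠ j) {x : F} (hx : x ≠ 0) {k : ℕ}
    (hk : k < n) : Φ.Diag (Φ.pairT i j x) k := by
  obtain ⟨h1, h2, h3, h4, h5⟩ := Φ.pairT_spec hi hj hij hx
  intro l hl
  have hl' : l < n := by omega
  rcases eq_or_ne l i with rfl | hli
  · exact ⟨⟨x, hx, h1⟩, x⁻¹, inv_ne_zero hx, h3⟩
  rcases eq_or_ne l j with rfl | hlj
  · exact ⟨⟨x⁻¹, inv_ne_zero hx, h2⟩, x, hx, h4⟩
  refine ⟨⟨1, one_ne_zero, ?_⟩, 1, one_ne_zero, ?_⟩ <;> rw [one_smul]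
  · exact h5 _ (Φ.pee hi hl') (Φ.pnfe hi hl' hli.symm) (Φ.pee hj hl') (Φ.pnfe hj hl' hlj.symm)
  · exact h5 _ (Φ.pnef i l hi hl' hli.symm) (Φ.pff hi hl') (Φ.pnef j l hj hl' hlj.symm) (Φ.pff hj hl')

theorem sqT_diag {i : ℕ} (hi : i < n) {y : F} (hy : y ≠ 0) {k : ℕ} (hk : k < n) :
    Φ.Diag (Φ.sqT Φ.z i y) k := by
  obtain ⟨h1, h2, h3⟩ := Φ.sqT_spec hi (Φ.pez i hi) (Φ.pfz i hi) Φ.qz hy
  intro l hl
  have hl' : l < n := by omega
  have hy2 : y * y ≠ 0 := mul_ne_zero hy hy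
  rcases eq_or_ne l i with rfl | hli
  · exact ⟨⟨_, inv_ne_zero hy2, h1⟩, _, hy2, h2⟩
  refine ⟨⟨1, one_ne_zero, ?_⟩, 1, one_ne_zero, ?_⟩ <;> rw [one_smul]
  · exact h3 _ (Φ.pee hi hl') (Φ.pnfe hi hl' hli.symm)
  · exact h3 _ (Φ.pnef i l hi hl' hli.symm) (Φ.pff hi hl')

variable {V : Type} [AddCommGroup V] [Module ℂ V] [FiniteDimensional ℂ V] (ρ : Representation ℂ (OG Q) V)

/-! ### Transitivity -/

theorem finrank_M_em {k : ℕ} (hk : k < n) {u w v : ι → F} (hu : Q u = 0) (huw : polar ⇑Q u w = 0)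
    (hu' : u ∈ Φ.W k) (hw' : w ∈ Φ.W k) (hv : v ∈ Φ.W k) :
    finrank ℂ (Φ.M ρ k v) = finrank ℂ (Φ.M ρ k (act (Φ.em u w) v)) :=
  Φ.finrank_M_diag ρ hk one_ne_zero (diag_em hu huw hu' hw')
    (by rw [one_smul, Φ.act_em_fix hu huw (by rw [pl_comm]; exact W_e hu' le_rfl)
      (by rw [pl_comm]; exact W_e hw' le_rfl)]) hv (by rw [inv_one, one_smul])

theorem exists_move_gen {β : Type*} (P : (ι → F) → β) {k : ℕ} (hk : k + 1 < n)
    (hinv : ∀ u ∈ ({Φ.e (k + 1), Φ.f (k + 1)} : Set (ι → F)), ∀ y ∈ Φ.W (k + 1), ∀ x ∈ Φ.W k,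
      P x = P (act (Φ.em u y) x)) {v : ι → F} (hv : v ∈ Φ.W k) (hv0 : v ≠ 0) :
    ∃ a b : F, b ≠ 0 ∧ a * b = Q v ∧ P v = P (a • Φ.e (k + 1) + b • Φ.f (k + 1)) := by
  have hp := Φ.hpair hk
  -- second step
  have step : ∀ (a b : F) (w : ι → F), w ∈ Φ.W (k + 1) → b ≠ 0 → ∃ a' : F, a' * b = a * b + Q w ∧
      P (a • Φ.e (k + 1) + b • Φ.f (k + 1) + w) = P (a' • Φ.e (k + 1) + b • Φ.f (k + 1)) := by
    intro a b w hw hb
    have hw' : (-b⁻¹) • w ∈ Φ.W (k + 1) := Submodule.smul_mem _ _ hw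
    refine ⟨a - polar ⇑Q ((-b⁻¹) • w) w - Q ((-b⁻¹) • w) * b, ?_, ?_⟩
    · rw [pl_smul_left, pl_self, Q_smul]
      field_simp
      ring
    · rw [hinv _ (Set.mem_insert _ _) _ hw' _ (comb_mem_W hk a b hw)]
      refine congrArg P
        ((hp.eich_left_ap (mem_perp_of_W hw' le_rfl) (mem_perp_of_W hw le_rfl) a b).trans ?_)
      rw [smul_smul, mul_neg, mul_inv_cancel₀ hb, neg_one_smul, add_neg_cancel, add_zero]
  rw [Q_coords hk hv]
  obtain ⟨a, ha⟩ : ∃ a, a = polar ⇑Q (Φ.f (k + 1)) v := ⟨_, rfl⟩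
  obtain ⟨b, hb⟩ : ∃ b, b = polar ⇑Q (Φ.e (k + 1)) v := ⟨_, rfl⟩
  obtain ⟨w, hw⟩ : ∃ w, w = Φ.projW (k + 1) v := ⟨_, rfl⟩
  have hwW : w ∈ Φ.W (k + 1) := hw ▸ Φ.projW_mem hk v
  have hv' : v = a • Φ.e (k + 1) + b • Φ.f (k + 1) + w := by rw [ha, hb, hw]; exact W_coords hv
  rw [← ha, ← hb, ← hw]
  rcases ne_or_eq b 0 with hb0 | hb0
  · obtain ⟨a', h1, h2⟩ := step a b w hwW hb0
    exact ⟨a', b, hb0, h1, by rw [hv']; exact h2⟩
  subst hb0
  -- first step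
  obtain ⟨y, hy, hne⟩ : ∃ y ∈ Φ.W (k + 1), polar ⇑Q y w + Q y * a ≠ 0 := by
    by_contra! hall
    rcases eq_or_ne w 0 with hw0 | hw0
    · have h1 := hall _ (Φ.z_mem_W hk)
      rw [hw0, pl_zero_right, zero_add] at h1
      refine hv0 ?_
      rw [hv', hw0, (mul_eq_zero.1 h1).resolve_left Φ.qz]
      simp
    · refine hw0 (Φ.W_sep hk hwW fun x hx => ?_)
      have h1 := hall x hx
      have h2 := hall (-x) (neg_mem hx)
      rw [pl_neg_left, QuadraticMap.map_neg] at h2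
      rw [pl_comm]
      have : (2 : F) * polar ⇑Q x w = 0 := by linear_combination h1 - h2
      exact (mul_eq_zero.1 this).resolve_left Φ.h2
  have hnew : (0 : F) - polar ⇑Q y w - Q y * a ≠ 0 := fun h => hne (by linear_combination -h)
  obtain ⟨a', h1, h2⟩ := step a _ (w + a • y) (add_mem hwW (Submodule.smul_mem _ _ hy)) hnew
  refine ⟨a', _, hnew, ?_, ?_⟩
  · rw [h1, Q_add, Q_smul, pl_smul_right, pl_comm Q w y]
    ring
  · rw [← h2, hinv _ (Set.mem_insert_of_mem _ rfl) _ hy _ hv]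
    refine congrArg P ?_
    rw [hv']
    exact hp.eich_right_ap (mem_perp_of_W hy le_rfl) (mem_perp_of_W hwW le_rfl) a 0

theorem exists_move_W {k : ℕ} (hk : k + 1 < n) {v : ι → F} (hv : v ∈ Φ.W k) (hv0 : v ≠ 0) :
    ∃ a b : F, b ≠ 0 ∧ a * b = Q v ∧
      finrank ℂ (Φ.M ρ k v) = finrank ℂ (Φ.M ρ k (a • Φ.e (k + 1) + b • Φ.f (k + 1))) := by
  refine Φ.exists_move_gen (fun x => finrank ℂ (Φ.M ρ k x)) hk (fun u hu y hy x hx => ?_) hv hv0
  rcases hu with rfl | rfl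
  · exact Φ.finrank_M_em ρ (by omega) (Φ.qe _ hk) (W_e hy le_rfl) (e_mem_W hk (Nat.lt_succ_self k))
      (W_anti (Nat.le_succ k) hy) hx
  · exact Φ.finrank_M_em ρ (by omega) (Φ.qf _ hk) (W_f hy le_rfl) (f_mem_W hk (Nat.lt_succ_self k))
      (W_anti (Nat.le_succ k) hy) hx

theorem finrank_M_pair {k : ℕ} (hn : 3 ≤ n) (hk : k + 1 < n) (a b : F) {x : F} (hx : x ≠ 0) :
    finrank ℂ (Φ.M ρ k (a • Φ.e (k + 1) + b • Φ.f (k + 1))) =
      finrank ℂ (Φ.M ρ k ((a * x) • Φ.e (k + 1) + (b * x⁻¹) • Φ.f (k + 1))) := by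
  obtain ⟨j, hj, hjk, hjk'⟩ : ∃ j, j < n ∧ k + 1 ≠ j ∧ j ≠ k := by
    rcases eq_or_ne k 0 with hk0 | hk0
    · exact ⟨2, by omega, by omega, by omega⟩
    · exact ⟨0, by omega, by omega, Ne.symm hk0⟩
  have hk' : k < n := by omega
  obtain ⟨h1, h2, h3, h4, h5⟩ := Φ.pairT_spec hk hj hjk hx
  refine Φ.finrank_M_diag ρ hk' one_ne_zero (Φ.pairT_diag hk hj hjk hx hk') ?_ ?_ ?_
  · rw [one_smul]
    exact h5 _ (Φ.pee hk hk') (Φ.pnfe hk hk' (by omega)) (Φ.pee hj hk') (Φ.pnfe hj hk' hjk')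
  · exact add_mem (Submodule.smul_mem _ _ (e_mem_W hk (Nat.lt_succ_self k)))
      (Submodule.smul_mem _ _ (f_mem_W hk (Nat.lt_succ_self k)))
  · rw [inv_one, one_smul, map_add, map_smul, map_smul, h1, h3, smul_smul, smul_smul]

theorem finrank_M_reduce {k : ℕ} (hn : 3 ≤ n) (hk : k + 1 < n) {v : ι → F} (hv : v ∈ Φ.W k) (hv0 : v ≠ 0) :
    (Q v = 0 → finrank ℂ (Φ.M ρ k v) = finrank ℂ (Φ.M ρ k (Φ.f (k + 1)))) ∧
      (Q v ≠ 0 → finrank ℂ (Φ.M ρ k v) = finrank ℂ (Φ.M ρ k (Φ.e (k + 1) + Q v • Φ.f (k + 1)))) := by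
  obtain ⟨a, b, hb, hab, h⟩ := Φ.exists_move_W ρ hk hv hv0
  constructor
  · intro hq
    rw [hq, mul_eq_zero] at hab
    obtain rfl : a = 0 := hab.resolve_right hb
    rw [h, Φ.finrank_M_pair ρ hn hk 0 b hb, zero_mul, zero_smul, zero_add, mul_inv_cancel₀ hb, one_smul]
  · intro hq
    have ha : a ≠ 0 := fun ha => hq (by rw [← hab, ha, zero_mul])
    rw [h, Φ.finrank_M_pair ρ hn hk a b (inv_ne_zero ha), mul_inv_cancel₀ ha, one_smul, inv_inv,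
      mul_comm b a, hab]

theorem finrank_M_square_class (hn : 3 ≤ n) {v v' : ι → F} (hv : v ∈ Φ.W 0) (hv' : v' ∈ Φ.W 0)
    (hq : Q v ≠ 0) {l : F} (hl : l ≠ 0) (h : Q v = l * l * Q v') :
    finrank ℂ (Φ.M ρ 0 v) = finrank ℂ (Φ.M ρ 0 v') := by
  have hq' : Q v' ≠ 0 := fun h0 => hq (by rw [h, h0, mul_zero])
  have hne : ∀ x : ι → F, Q x ≠ 0 → x ≠ 0 := fun x hx h0 => hx (by simp [h0])
  rw [(Φ.finrank_M_reduce ρ hn (k := 0) (by omega) hv (hne _ hq)).2 hq,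
    (Φ.finrank_M_reduce ρ hn (k := 0) (by omega) hv' (hne _ hq')).2 hq']
  obtain ⟨h1, -, -, -, h5⟩ := Φ.pairT_spec (i := 0) (j := 2) (by omega) (by omega) (by omega) hl
  have hcomb : ∀ b : F, Φ.e 1 + b • Φ.f 1 ∈ Φ.W 0 := fun b =>
    add_mem (e_mem_W (by omega) (by omega)) (Submodule.smul_mem _ _ (f_mem_W (by omega) (by omega)))
  rw [Φ.finrank_M_diag ρ (by omega : (0 : ℕ) < n) hl (Φ.pairT_diag (by omega) (by omega) (by omega) hl (by omega))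
    h1 (hcomb (Q v)) rfl]
  have hfix : act (Φ.pairT 0 2 l) (Φ.e 1 + Q v • Φ.f 1) = Φ.e 1 + Q v • Φ.f 1 := by
    rw [map_add, map_smul, h5 (Φ.e 1) (Φ.pee (by omega) (by omega)) (Φ.pnfe (by omega) (by omega) (by omega))
      (Φ.pee (by omega) (by omega)) (Φ.pnfe (by omega) (by omega) (by omega)),
      h5 (Φ.f 1) (Φ.pnef 0 1 (by omega) (by omega) (by omega)) (Φ.pff (by omega) (by omega))
      (Φ.pnef 2 1 (by omega) (by omega) (by omega)) (Φ.pff (by omega) (by omega))]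
  rw [hfix, show l⁻¹ • (Φ.e 1 + Q v • Φ.f 1) = l⁻¹ • Φ.e 1 + (l⁻¹ * Q v) • Φ.f 1 by rw [smul_add, smul_smul],
    Φ.finrank_M_pair ρ hn (by omega) _ _ hl, inv_mul_cancel₀ hl, one_smul, h]
  refine congrArg (fun x => finrank ℂ (Φ.M ρ 0 (Φ.e 1 + x • Φ.f 1))) ?_
  field_simp

/-! ### Counting -/

/-- Coordinates in `W k`. -/
noncomputable def wEquiv {k : ℕ} (hk : k + 1 < n) : F × F × Φ.W (k + 1) ≃ Φ.W k where
  toFun p := ⟨p.1 • Φ.e (k + 1) + p.2.1 • Φ.f (k + 1) + p.2.2.1, comb_mem_W hk _ _ p.2.2.2⟩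
  invFun v := (polar ⇑Q (Φ.f (k + 1)) v.1, polar ⇑Q (Φ.e (k + 1)) v.1,
    ⟨Φ.projW (k + 1) v.1, Φ.projW_mem hk v.1⟩)
  left_inv := by
    rintro ⟨a, b, w, hw⟩
    have ha : polar ⇑Q (Φ.f (k + 1)) (a • Φ.e (k + 1) + b • Φ.f (k + 1) + w) = a := by
      simp only [pl_add_right, pl_smul_right, Φ.pfe hk, Φ.pff hk hk, W_f hw le_rfl, mul_one, mul_zero, add_zero]
    have hb : polar ⇑Q (Φ.e (k + 1)) (a • Φ.e (k + 1) + b • Φ.f (k + 1) + w) = b := by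
      simp only [pl_add_right, pl_smul_right, Φ.pee hk hk, Φ.pef _ hk, W_e hw le_rfl, mul_one, mul_zero,
        zero_add, add_zero]
    have h := W_coords (comb_mem_W hk a b hw)
    rw [ha, hb] at h
    simp only [ha, hb, Prod.mk.injEq, true_and]
    exact Subtype.ext (add_left_cancel h).symm
  right_inv v := Subtype.ext (W_coords v.2).symm

theorem card_core : Nat.card (Φ.W (n - 1)) = Fintype.card F := by
  have hn := Φ.n_pos
  rw [← Nat.card_eq_fintype_card]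
  refine (Nat.card_eq_of_bijective
    (fun c : F => (⟨c • Φ.z, Submodule.smul_mem _ c (Φ.z_mem_W (by omega))⟩ : Φ.W (n - 1)))
    ⟨fun a b h => ?_, fun x => ?_⟩).symm
  · have h1 : a • Φ.z = b • Φ.z := congrArg Subtype.val h
    exact smul_left_injective F (fun h0 => Φ.qz (by simp [h0])) h1
  · obtain ⟨c, hc⟩ := Φ.hcore x.1 fun i hi => x.2 i (by omega)
    exact ⟨c, Subtype.ext hc.symm⟩

theorem card_W (j : ℕ) (hj : j < n) : Nat.card (Φ.W (n - 1 - j)) = Fintype.card F ^ (2 * j + 1) := by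
  induction j with
  | zero => rw [Nat.sub_zero, Φ.card_core, mul_zero, zero_add, pow_one]
  | succ j ih =>
    rw [← Nat.card_congr (Φ.wEquiv (k := n - 1 - (j + 1)) (by omega)), Nat.card_prod, Nat.card_prod,
      show n - 1 - (j + 1) + 1 = n - 1 - j by omega, ih (by omega), Nat.card_eq_fintype_card]
    ring

theorem card_singular (j : ℕ) (hj : j < n) :
    Nat.card {v : Φ.W (n - 1 - j) // Q v.1 = 0} = Fintype.card F ^ (2 * j) := by
  induction j with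
  | zero =>
    rw [mul_zero, pow_zero, Nat.card_eq_one_iff_unique]
    have hz : ∀ v : Φ.W (n - 1 - 0), Q v.1 = 0 → v.1 = 0 := fun v hv => by
      obtain ⟨c, hc⟩ := Φ.hcore v.1 fun i hi => v.2 i (by omega)
      rw [hc, Q_smul, mul_eq_zero, mul_self_eq_zero] at hv
      rw [hc, hv.resolve_right Φ.qz, zero_smul]
    exact ⟨⟨fun a b => Subtype.ext (Subtype.ext ((hz a.1 a.2).trans (hz b.1 b.2).symm))⟩,
      ⟨⟨0, QuadraticMap.map_zero Q⟩⟩⟩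
  | succ j ih =>
    classical
    obtain ⟨k, hk⟩ : ∃ k, k = n - 1 - (j + 1) := ⟨_, rfl⟩
    have hk1 : n - 1 - j = k + 1 := by omega
    have hk2 : k + 1 < n := by omega
    rw [hk1] at ih
    rw [← hk]
    let P := Φ.W (k + 1)
    have e1 : {v : Φ.W k // Q v.1 = 0} ≃ {p : F × F × P // p.1 * p.2.1 + Q p.2.2.1 = 0} :=
      ((Φ.wEquiv hk2).subtypeEquiv fun p => by
        show _ ↔ Q (p.1 • Φ.e (k + 1) + p.2.1 • Φ.f (k + 1) + p.2.2.1) = 0
        rw [(Φ.hpair hk2).Q_comb (mem_perp_of_W p.2.2.2 le_rfl)]).symm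
    let g : (Fˣ × P) ⊕ (F × {w : P // Q w.1 = 0}) → {p : F × F × P // p.1 * p.2.1 + Q p.2.2.1 = 0} :=
      Sum.elim (fun x => ⟨((x.1 : F), -Q x.2.1 / x.1, x.2), by
          rw [mul_div_cancel₀ _ x.1.ne_zero, neg_add_cancel]⟩)
        fun x => ⟨(0, x.1, x.2.1), by rw [zero_mul, zero_add, x.2.2]⟩
    have hg : Function.Bijective g := by
      refine ⟨?_, fun ⟨⟨a, b, w⟩, hp⟩ => ?_⟩
      · rintro (⟨a, w⟩ | ⟨b, w⟩) (⟨a', w'⟩ | ⟨b', w'⟩) h <;>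
          simp only [g, Sum.elim_inl, Sum.elim_inr, Subtype.mk.injEq, Prod.mk.injEq] at h
        · rw [Units.ext h.1, h.2.2]
        · exact absurd h.1 a.ne_zero
        · exact absurd h.1.symm a'.ne_zero
        · rw [h.2.1, Subtype.ext h.2.2]
      · rcases eq_or_ne a 0 with rfl | ha
        · exact ⟨.inr (b, ⟨w, by simpa using hp⟩), rfl⟩
        · refine ⟨.inl (Units.mk0 a ha, w), Subtype.ext (Prod.ext rfl (Prod.ext ?_ rfl))⟩
          show -Q w.1 / a = b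
          rw [div_eq_iff ha]
          linear_combination -hp
    rw [Nat.card_congr e1, ← Nat.card_eq_of_bijective g hg, Nat.card_sum, Nat.card_prod, Nat.card_prod,
      ih (by omega), show Nat.card P = _ from hk1 ▸ Φ.card_W j (by omega), Nat.card_units,
      Nat.card_eq_fintype_card]
    obtain ⟨r, hr⟩ : ∃ r, Fintype.card F = r + 1 := ⟨_, (Nat.succ_pred Fintype.card_ne_zero).symm⟩
    rw [hr, Nat.add_sub_cancel]
    ring

/-! ### Propagation -/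

theorem sEl_fix {k j : ℕ} (hk : k + 1 < n) (hj : j < k) :
    act (Φ.sEl k (k + 1) 1) (Φ.e j) = Φ.e j :=
  (Φ.sEl_spec (by omega) hk (by omega) one_ne_zero).2.2.2.2 _ (Φ.pee (by omega) (by omega))
    (Φ.pnfe (by omega) (by omega) (by omega)) (Φ.pee hk (by omega)) (Φ.pnfe hk (by omega) (by omega))

theorem psi_separates {a b : F} (h : ∀ c, psi F (c * a) = psi F (c * b)) : a = b := by
  refine sub_eq_zero.1 (eq_zero_of_psi fun c => ?_)
  rw [mul_sub, sub_eq_add_neg, AddChar.map_add_eq_mul, h, ← AddChar.map_add_eq_mul, add_neg_cancel,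
    AddChar.map_zero_eq_one]

/-- Where the components of a vector with prescribed eigenvalues lie. -/
theorem component_form {k : ℕ} (hk : k + 1 < n) [Fintype (Φ.W k)] {u : V} {w : ι → F}
    (hw : w ∈ Φ.W (k + 1))
    (hx : ∀ x ∈ Φ.W (k + 1), ρ (Φ.em (Φ.e k) x) u = psi F (polar ⇑Q w x) • u)
    (he : ∀ a : F, ρ (Φ.em (Φ.e k) (a • Φ.e (k + 1))) u = u) {v : Φ.W k} (hne : Φ.pM ρ k v u ≠ 0) :
    ∃ α : F, v.1 = w + α • Φ.e (k + 1) := by
  have hk' : k < n := by omega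
  have h1 : ∀ x ∈ Φ.W (k + 1), polar ⇑Q v.1 x = polar ⇑Q w x := fun x hxW => psi_separates fun c => by
    by_contra hc
    refine hne (Φ.pM_eq_zero ρ hk' (x := ⟨c • x, W_anti (Nat.le_succ k) (Submodule.smul_mem _ _ hxW)⟩)
      (hx (c • x) (Submodule.smul_mem _ _ hxW)) ?_)
    simpa only [pl_smul_right] using hc
  have h2 : polar ⇑Q v.1 (Φ.e (k + 1)) = 0 := psi_separates fun c => by
    by_contra hc
    refine hne (Φ.pM_eq_zero ρ hk' (x := ⟨c • Φ.e (k + 1), Submodule.smul_mem _ _ (e_mem_W hk (Nat.lt_succ_self k))⟩)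
      (c := 1) ((he c).trans (one_smul ℂ u).symm) ?_)
    simpa only [pl_smul_right, mul_zero, AddChar.map_zero_eq_one] using hc
  obtain ⟨α, hα⟩ : ∃ α, α = polar ⇑Q (Φ.f (k + 1)) v.1 := ⟨_, rfl⟩
  refine ⟨α, ?_⟩
  have hv := W_coords v.2
  rw [pl_comm Q (Φ.e (k + 1)), h2, zero_smul, add_zero, ← hα] at hv
  have h3 : Φ.projW (k + 1) v.1 = w := sub_eq_zero.1 (Φ.W_sep hk (sub_mem (Φ.projW_mem hk _) hw) fun x hx => by
    have h4 := h1 x hx
    rw [hv, pl_add_left, pl_smul_left, W_e hx le_rfl, mul_zero, zero_add] at h4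
    rw [pl_sub_left, h4, sub_self])
  rw [h3, add_comm] at hv
  exact hv

theorem upper {k : ℕ} (hk : k + 1 < n) [Fintype (Φ.W k)] {w : ι → F} (hw : w ∈ Φ.W (k + 1)) (hw0 : w ≠ 0) :
    finrank ℂ (Φ.M ρ (k + 1) w) ≤ finrank ℂ (Φ.M ρ k (-w)) := by
  have hk' : k < n := by omega
  obtain ⟨s1, s2, -, -, -⟩ := Φ.sEl_spec hk' hk (by omega) (one_ne_zero (α := F))
  simp only [inv_one, one_smul] at s1 s2
  obtain ⟨s, hs⟩ : ∃ s, s = Φ.sEl k (k + 1) 1 := ⟨_, rfl⟩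
  rw [← hs] at s1 s2
  have s3 : ∀ x ∈ Φ.W (k + 1), act s x = x := fun x hx =>
    hs ▸ Φ.sEl_core hk' hk (by omega) one_ne_zero hx (Nat.le_succ k) le_rfl
  have hsE : ∀ u ∈ Φ.E ρ (k + 1), ρ s u ∈ Φ.E ρ k := fun u hu =>
    Φ.mapsTo_E_fix ρ (fun j hj => hs ▸ Φ.sEl_fix hk hj) (Φ.E_anti ρ (Nat.le_succ k) hu)
  -- the three kinds of root elements on `ρ s u`
  have ha : ∀ u ∈ Φ.M ρ (k + 1) w, ∀ x ∈ Φ.W (k + 1),
      ρ (Φ.em (Φ.e k) x) (ρ s u) = psi F (polar ⇑Q (-w) x) • ρ s u := fun u hu x hx => by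
    have h1 : Φ.em (Φ.e k) x * s = s * Φ.em (Φ.e (k + 1)) (-x) := by
      rw [Φ.mul_em, s2, map_neg, s3 x hx, Φ.em_smul_left, neg_smul, one_smul, neg_neg]
    rw [← Module.End.mul_apply, ← map_mul, h1, map_mul, Module.End.mul_apply,
      ((Φ.mem_M ρ).1 hu).2 _ (neg_mem hx), map_smul, pl_neg_left, pl_neg_right]
  have hb : ∀ u ∈ Φ.M ρ (k + 1) w, ∀ a : F, ρ (Φ.em (Φ.e k) (a • Φ.e (k + 1))) (ρ s u) = ρ s u := fun u hu a => by
    have h1 : Φ.em (Φ.e k) (a • Φ.e (k + 1)) * s = s * Φ.em (Φ.e (k + 1)) ((-a) • Φ.e k) := by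
      rw [Φ.mul_em, map_smul, s1, s2, Φ.em_smul_left, smul_smul, neg_one_mul, neg_neg]
    have h2 : Φ.em (Φ.e (k + 1)) ((-a) • Φ.e k) = Φ.em (Φ.e k) (a • Φ.e (k + 1)) := by
      rw [Φ.em_comm (Φ.qe _ hk) (by rw [Q_smul, Φ.qe k hk', mul_zero])
        (by rw [pl_smul_right, Φ.pee hk hk', mul_zero]), Φ.em_smul_left, neg_smul, smul_neg, neg_neg]
    rw [← Module.End.mul_apply, ← map_mul, h1, h2, map_mul, Module.End.mul_apply,
      (Φ.mem_E ρ).1 hu.1 k (Nat.lt_succ_self k) _ fun i hi => by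
        rw [pl_smul_right, Φ.pee (by omega) hk, mul_zero]]
  have hc : ∀ u ∈ Φ.M ρ (k + 1) w, ∀ x ∈ Φ.W (k + 1), ρ (Φ.em (Φ.e (k + 1)) x) (ρ s u) = ρ s u := fun u hu x hx => by
    have h1 : Φ.em (Φ.e (k + 1)) x * s = s * Φ.em (Φ.e k) x := by rw [Φ.mul_em, s1, s3 x hx]
    rw [← Module.End.mul_apply, ← map_mul, h1, map_mul, Module.End.mul_apply,
      (Φ.mem_E ρ).1 hu.1 k (Nat.lt_succ_self k) _ fun i hi => W_e hx (hi.trans (Nat.le_succ k))]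
  refine LinearMap.finrank_le_finrank_of_injective
    (f := (Φ.pM ρ k (-w) ∘ₗ ρ s).restrict fun u hu => Φ.pM_mem ρ hk' _ (hsE u hu.1))
    (LinearMap.ker_eq_bot.1 (LinearMap.ker_eq_bot'.2 fun u hu => Subtype.ext (rep_injective ρ s ?_)))
  have hu' : Φ.pM ρ k (-w) (ρ s u) = 0 := congrArg Subtype.val hu
  rw [← Φ.sum_pM ρ hk' (ρ s u), Submodule.coe_zero, map_zero]
  refine Finset.sum_eq_zero fun v _ => by_contra fun hne => hne ?_
  obtain ⟨α, hα⟩ := Φ.component_form ρ hk (neg_mem hw) (ha u u.2) (hb u u.2) hne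
  obtain ⟨y, hy, hyw⟩ : ∃ y ∈ Φ.W (k + 1), polar ⇑Q y w = α := by
    obtain ⟨x, hx, hxw⟩ : ∃ x ∈ Φ.W (k + 1), polar ⇑Q w x ≠ 0 := by
      by_contra! hh
      exact hw0 (Φ.W_sep hk hw hh)
    exact ⟨(α / polar ⇑Q w x) • x, Submodule.smul_mem _ _ hx, by
      rw [pl_smul_left, pl_comm Q x w, div_mul_cancel₀ _ hxw]⟩
  have he' := e_mem_W (Φ := Φ) hk (Nat.lt_succ_self k)
  have hg : act (Φ.em (Φ.e (k + 1)) y) (-w) = v.1 := by
    rw [Φ.act_em (Φ.qe _ hk) (W_e hy le_rfl), hα, pl_neg_right, pl_neg_right, W_e hw le_rfl, hyw]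
    module
  rw [← hg, ← hc u u.2 y hy, Φ.pM_comp ρ hk' (diag_em (Φ.qe _ hk) (W_e hy le_rfl) he' (W_anti (Nat.le_succ k) hy))
    (Φ.act_em_fix (Φ.qe _ hk) (W_e hy le_rfl) (Φ.pee hk hk') (by rw [pl_comm]; exact W_e hy (Nat.le_succ k))),
    hu', map_zero]

theorem lower (hq : 3 < Fintype.card F) {k : ℕ} (hk : k + 2 < n) [Fintype (Φ.W k)]
    (h1 : ∀ v ∈ Φ.W k, v ≠ 0 → finrank ℂ (Φ.M ρ k v) ≤ 1) (hne : Φ.M ρ k (-Φ.e (k + 2)) ≠ ⊥) :
    Φ.M ρ (k + 1) (Φ.e (k + 2)) ≠ ⊥ := by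
  classical
  have hk' : k < n := by omega
  have hk1 : k + 1 < n := by omega
  obtain ⟨s1, s2, -, -, -⟩ := Φ.sEl_spec hk' hk1 (by omega) (one_ne_zero (α := F))
  simp only [inv_one, one_smul] at s1 s2
  obtain ⟨s, hs⟩ : ∃ s, s = Φ.sEl k (k + 1) 1 := ⟨_, rfl⟩
  rw [← hs] at s1 s2
  have s3 : ∀ x ∈ Φ.W (k + 1), act s x = x := fun x hx =>
    hs ▸ Φ.sEl_core hk' hk1 (by omega) one_ne_zero hx (Nat.le_succ k) le_rfl
  obtain ⟨w, hwdef⟩ : ∃ w, w = Φ.e (k + 2) := ⟨_, rfl⟩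
  obtain ⟨y, hydef⟩ : ∃ y, y = Φ.f (k + 2) := ⟨_, rfl⟩
  rw [← hwdef] at hne ⊢
  have hw : w ∈ Φ.W (k + 1) := hwdef ▸ e_mem_W hk (Nat.lt_succ_self _)
  have hy : y ∈ Φ.W (k + 1) := hydef ▸ f_mem_W hk (Nat.lt_succ_self _)
  have hwy : polar ⇑Q w y = 1 := by rw [hwdef, hydef, Φ.pef _ hk]
  have hwk : w ∈ Φ.W k := W_anti (Nat.le_succ k) hw
  have hw0 : w ≠ 0 := fun h => by rw [h, pl_zero_left] at hwy; exact zero_ne_one hwy
  have he' := e_mem_W (Φ := Φ) hk1 (Nat.lt_succ_self k)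
  have hek : ∀ x, x ∈ Φ.W (k + 1) → ∀ i ≤ k + 1, polar ⇑Q x (Φ.e i) = 0 := fun x hx i hi => by
    rw [pl_comm]; exact W_e hx hi
  have hee : ∀ i ≤ k + 1, polar ⇑Q (Φ.e (k + 1)) (Φ.e i) = 0 := fun i hi => Φ.pee hk1 (by omega)
  obtain ⟨l, hl0, hl⟩ := exists_scalar hq
  obtain ⟨c, hc, hc0⟩ := Submodule.exists_mem_ne_zero_of_ne_bot hne
  -- translates
  have hact : ∀ a : F, act (Φ.em (Φ.e (k + 1)) (a • y)) (-w) = -w + a • Φ.e (k + 1) := fun a => by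
    rw [Φ.act_em (Φ.qe _ hk1) (W_e (Submodule.smul_mem _ a hy) le_rfl), pl_neg_right, pl_neg_right,
      W_e hw le_rfl, pl_smul_left, pl_comm Q y w, hwy]
    module
  have hterm : ∀ a : F, ρ (Φ.em (Φ.e (k + 1)) (a • y)) c ∈ Φ.M ρ k (-w + a • Φ.e (k + 1)) := fun a => by
    have hfix : ∀ i ≤ k, act (Φ.em (Φ.e (k + 1)) (a • y)) (Φ.e i) = Φ.e i := fun i hi =>
      Φ.act_em_fix (Φ.qe _ hk1) (W_e (Submodule.smul_mem _ a hy) le_rfl) (hee i (by omega))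
        (hek _ (Submodule.smul_mem _ a hy) i (by omega))
    exact Φ.mapsTo_M ρ hk' (fun j hj => ⟨1, one_ne_zero, by rw [hfix j hj.le, one_smul]⟩) one_ne_zero
      (by rw [hfix k le_rfl, one_smul]) (fun i hi => by rw [pl_neg_left, hek w hw i (by omega), neg_zero])
      (fun x _ => by rw [hact, inv_one, one_mul]) hc
  obtain ⟨u', hu'⟩ : ∃ u', u' = ∑ a : F, ρ (Φ.em (Φ.e (k + 1)) (a • y)) c := ⟨_, rfl⟩
  have hu'0 : u' ≠ 0 := by
    intro h0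
    refine hc0 ?_
    have h2 : Φ.pM ρ k (-w) u' = c := by
      rw [hu', map_sum, Finset.sum_eq_single (0 : F)]
      · rw [zero_smul, Φ.em_zero, map_one, Module.End.one_apply, Φ.pM_self ρ hk' hc]
      · intro a _ ha
        refine Φ.pM_other ρ hk' (v := ⟨-w, neg_mem hwk⟩)
          (v' := ⟨-w + a • Φ.e (k + 1), add_mem (neg_mem hwk) (Submodule.smul_mem _ a he')⟩) (fun h => ha ?_)
          (hterm a)
        have h4 : (-w : ι → F) = -w + a • Φ.e (k + 1) := congrArg Subtype.val h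
        exact (smul_eq_zero.1 (left_eq_add.1 h4)).resolve_right fun h5 => (Φ.hpair hk1).ne_zero h5
      · exact fun h => absurd (Finset.mem_univ _) h
    rw [← h2, h0, map_zero]
  have hu'E : u' ∈ Φ.E ρ k := hu' ▸ Submodule.sum_mem _ fun a _ => (hterm a).1
  -- fixed by the radical at `e_{k+1}`
  have hfixed : ∀ x ∈ Φ.W (k + 1), ρ (Φ.em (Φ.e (k + 1)) x) u' = u' := fun x hx => by
    obtain ⟨β, hβ⟩ : ∃ β, β = polar ⇑Q w x := ⟨_, rfl⟩
    obtain ⟨x0, hx0⟩ : ∃ x0, x0 = x - β • y := ⟨_, rfl⟩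
    have hx0W : x0 ∈ Φ.W (k + 1) := hx0 ▸ sub_mem hx (Submodule.smul_mem _ _ hy)
    have hx0w : polar ⇑Q x0 w = 0 := by
      rw [hx0, pl_comm, pl_sub_right, pl_smul_right, hwy, ← hβ, mul_one, sub_self]
    obtain ⟨q1, q2, q3⟩ := Φ.sqT_spec hk1 (Φ.pez _ hk1) (Φ.pfz _ hk1) Φ.qz hl0
    have hph : ρ (Φ.em (Φ.e (k + 1)) x0) c = c :=
      Φ.phase ρ hk' (h := Φ.sqT Φ.z (k + 1) l) (l := 1) (m := (l * l)⁻¹)
        (fun i hi => by rw [pl_neg_left, hek w hw i (by omega), neg_zero])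
        (h1 _ (neg_mem hwk) (neg_ne_zero.2 hw0)) (Φ.qe _ hk1) (W_e hx0W le_rfl)
        (fun i hi => hee i (by omega)) (fun i hi => hek x0 hx0W i (by omega))
        (by rw [pl_neg_right, W_e hw le_rfl, neg_zero]) (by rw [pl_neg_right, hx0w, neg_zero])
        (fun j hj => ((Φ.sqT_diag hk1 hl0 hk') j hj.le).1) one_ne_zero
        (by rw [one_smul, q3 _ (Φ.pee hk1 hk') (Φ.pnfe hk1 hk' (by omega))])
        (fun z _ => by rw [map_neg, q3 w (W_e hw le_rfl) (W_f hw le_rfl), one_mul])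
        q1 (q3 x0 (W_e hx0W le_rfl) (W_f hx0W le_rfl))
        (fun h => hl (inv_eq_one.1 h)) hc
    have hadd : ∀ a : F, Φ.em (Φ.e (k + 1)) x * Φ.em (Φ.e (k + 1)) (a • y) =
        Φ.em (Φ.e (k + 1)) ((a + β) • y) * Φ.em (Φ.e (k + 1)) x0 := fun a => by
      rw [← Φ.em_add (Φ.qe _ hk1) (W_e hx le_rfl) (W_e (Submodule.smul_mem _ a hy) le_rfl),
        ← Φ.em_add (Φ.qe _ hk1) (W_e (Submodule.smul_mem _ (a + β) hy) le_rfl) (W_e hx0W le_rfl), hx0]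
      congr 1
      module
    rw [hu', map_sum]
    refine Fintype.sum_equiv (Equiv.addRight β) _ _ fun a => ?_
    rw [Equiv.coe_addRight, ← Module.End.mul_apply, ← map_mul, hadd, map_mul, Module.End.mul_apply, hph]
  have heig : ∀ x : ι → F, (∀ i ≤ k, polar ⇑Q (Φ.e i) x = 0) → polar ⇑Q (Φ.e (k + 1)) x = 0 →
      ρ (Φ.em (Φ.e k) x) u' = psi F (polar ⇑Q (-w) x) • u' := fun x hx1 hx2 => by
    rw [hu', map_sum, Finset.smul_sum]
    refine Finset.sum_congr rfl fun a _ => ?_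
    rw [Φ.M_em ρ hk' (fun i hi => by rw [pl_add_left, pl_neg_left, pl_smul_left, hek w hw i (by omega),
      hee i (by omega), neg_zero, mul_zero, add_zero]) (hterm a) hx1, pl_add_left, pl_smul_left, hx2,
      mul_zero, add_zero]
  -- back by the swap
  obtain ⟨u, hu⟩ : ∃ u, u = ρ s⁻¹ u' := ⟨_, rfl⟩
  have hsinv : ∀ x x' : ι → F, act s x = x' → act s⁻¹ x' = x := fun x x' h => by rw [← h, act_inv_act]
  have t1 : act s⁻¹ (Φ.e (k + 1)) = Φ.e k := hsinv _ _ s1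
  have t2 : act s⁻¹ (Φ.e k) = -Φ.e (k + 1) := hsinv _ _ (by rw [map_neg, s2, neg_smul, one_smul, neg_neg])
  have t3 : ∀ x ∈ Φ.W (k + 1), act s⁻¹ x = x := fun x hx => hsinv _ _ (s3 x hx)
  have huE : u ∈ Φ.E ρ k := hu ▸ Φ.mapsTo_E_fix ρ (fun j hj =>
    hsinv _ _ (hs ▸ Φ.sEl_fix hk1 hj)) hu'E
  have ha : ∀ x ∈ Φ.W (k + 1), ρ (Φ.em (Φ.e k) x) u = u := fun x hx => by
    have h2 : Φ.em (Φ.e k) x * s⁻¹ = s⁻¹ * Φ.em (Φ.e (k + 1)) x := by rw [Φ.mul_em s⁻¹, t1, t3 x hx]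
    rw [hu, ← Module.End.mul_apply, ← map_mul, h2, map_mul, Module.End.mul_apply, hfixed x hx]
  have hb : ∀ a : F, ρ (Φ.em (Φ.e k) (a • Φ.e (k + 1))) u = u := fun a => by
    have h2 : Φ.em (Φ.e k) (a • Φ.e (k + 1)) * s⁻¹ = s⁻¹ * Φ.em (Φ.e k) (a • Φ.e (k + 1)) := by
      rw [Φ.mul_em s⁻¹, t2, map_smul, t1]
      congr 1
      rw [Φ.em_comm (u := -Φ.e (k + 1)) (by rw [QuadraticMap.map_neg, Φ.qe _ hk1])
        (by rw [Q_smul, Φ.qe k hk', mul_zero]) (by rw [pl_neg_left, pl_smul_right, Φ.pee hk1 hk', mul_zero, neg_zero]),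
        Φ.em_smul_left, neg_neg]
    rw [hu, ← Module.End.mul_apply, ← map_mul, h2, map_mul, Module.End.mul_apply,
      heig _ (fun i hi => by rw [pl_smul_right, Φ.pee (by omega) hk1, mul_zero])
        (by rw [pl_smul_right, Φ.pee hk1 hk1, mul_zero]), pl_smul_right, pl_neg_left, hek w hw _ le_rfl,
      neg_zero, mul_zero, AddChar.map_zero_eq_one, one_smul]
  have hcc : ∀ x ∈ Φ.W (k + 1), ρ (Φ.em (Φ.e (k + 1)) x) u = psi F (polar ⇑Q w x) • u := fun x hx => by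
    have h2 : Φ.em (Φ.e (k + 1)) x * s⁻¹ = s⁻¹ * Φ.em (Φ.e k) (-x) := by
      rw [Φ.mul_em s⁻¹, t2, map_neg, t3 x hx]
      congr 1
      rw [← neg_one_smul F (Φ.e (k + 1)), Φ.em_smul_left, neg_one_smul, neg_neg]
    rw [hu, ← Module.End.mul_apply, ← map_mul, h2, map_mul, Module.End.mul_apply,
      heig _ (fun i hi => W_e (neg_mem hx) (by omega)) (W_e (neg_mem hx) le_rfl), pl_neg_left, pl_neg_right,
      neg_neg, map_smul]
  -- only the trivial component survives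
  have hzero : ∀ v : Φ.W k, v ≠ 0 → Φ.pM ρ k v u = 0 := fun v hv0 => by
    by_contra hcomp
    obtain ⟨α, hα⟩ := Φ.component_form ρ hk1 (zero_mem _) (w := 0)
      (fun x hx => by rw [ha x hx, pl_zero_left, AddChar.map_zero_eq_one, one_smul]) hb hcomp
    rw [zero_add] at hα
    obtain ⟨a, ha1⟩ : ∃ a : F, psi F (a * 1) ≠ 1 := by
      by_contra! hh
      exact one_ne_zero (eq_zero_of_psi hh)
    rw [mul_one] at ha1
    have hay := Submodule.smul_mem _ a hy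
    have hge : act (Φ.em (Φ.e (k + 1)) (a • y)) v.1 = v.1 := Φ.act_em_fix (Φ.qe _ hk1) (W_e hay le_rfl)
      (by rw [hα, pl_smul_right, Φ.pee hk1 hk1, mul_zero]) (by rw [hα, pl_smul_right, hek _ hay _ le_rfl, mul_zero])
    obtain ⟨q1, -, q3⟩ := Φ.sqT_spec hk1 (Φ.pez _ hk1) (Φ.pfz _ hk1) Φ.qz (inv_ne_zero hl0)
    obtain ⟨p1, p2, -, -, p5⟩ := Φ.pairT_spec hk' hk1 (by omega) hl0
    have hh1 : act (Φ.pairT k (k + 1) l * Φ.sqT Φ.z (k + 1) l⁻¹) (Φ.e (k + 1)) = l • Φ.e (k + 1) := by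
      rw [act_mul, q1, map_smul, p2, smul_smul]
      congr 1
      field_simp
    have hph : ρ (Φ.em (Φ.e (k + 1)) (a • y)) (Φ.pM ρ k v u) = Φ.pM ρ k v u :=
      Φ.phase ρ hk' (h := Φ.pairT k (k + 1) l * Φ.sqT Φ.z (k + 1) l⁻¹) (l := l) (m := l)
        (fun i hi => by rw [pl_comm]; exact W_e v.2 hi) (h1 _ v.2 fun h => hv0 (Subtype.ext h)) (Φ.qe _ hk1)
        (W_e hay le_rfl) (fun i hi => hee i (by omega)) (fun i hi => hek _ hay i (by omega))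
        (by rw [hα, pl_smul_right, Φ.pee hk1 hk1, mul_zero])
        (by rw [hα, pl_smul_right, hek _ hay _ le_rfl, mul_zero])
        (fun j hj => (((Φ.pairT_diag hk' hk1 (by omega) hl0 hk').mul (Φ.sqT_diag hk1 (inv_ne_zero hl0) hk')) j hj.le).1)
        hl0
        (by rw [act_mul, q3 _ (Φ.pee hk1 hk') (Φ.pnfe hk1 hk' (by omega)), p1])
        (fun z _ => by rw [hα, map_smul, hh1, pl_smul_left, pl_smul_left, pl_smul_left]; ring)
        hh1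
        (by rw [act_mul, q3 _ (W_e hay le_rfl) (W_f hay le_rfl),
          p5 _ (W_e hay (Nat.le_succ k)) (W_f hay (Nat.le_succ k)) (W_e hay le_rfl) (W_f hay le_rfl)])
        (fun h => hl (by rw [h, mul_one])) (Φ.pM_mem ρ hk' _ huE)
    have h3 := Φ.pM_comp ρ hk' (diag_em (Φ.qe _ hk1) (W_e hay le_rfl) he' (W_anti (Nat.le_succ k) hay))
      (Φ.act_em_fix (Φ.qe _ hk1) (W_e hay le_rfl) (Φ.pee hk1 hk') (hek _ hay k (by omega))) v.1 u
    rw [hge, hcc _ hay, pl_smul_right, hwy, mul_one, map_smul, hph] at h3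
    exact ha1 (smul_left_injective ℂ hcomp (h3.trans (one_smul ℂ _).symm))
  refine (Submodule.ne_bot_iff _).2 ⟨u, (Φ.mem_M ρ).2 ⟨?_, hcc⟩, ?_⟩
  · rw [← Φ.sum_pM ρ hk' u, Finset.sum_eq_single (0 : Φ.W k) (fun v _ hv => hzero v hv)
      (fun h => absurd (Finset.mem_univ _) h), ← Φ.M_zero ρ hk']
    exact Φ.pM_mem ρ hk' (0 : ι → F) huE
  · intro h0
    exact hu'0 (rep_injective ρ s⁻¹ (by rw [← hu, h0, map_zero]))

end Frame

end Cfsg.Agent.OrthMinDegree
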